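import Cfsg.Agent.Lib.FischerOrth68.Sign
import Cfsg.Agent.Lib.FischerOrthModels51.Iso
import Cfsg.Agent.Lib.FischerThm.Defs

/-!
Node E of Fischer's theorem: a perp set of reflections over three elements gives one dimension more.
-/
set_option autoImplicit false
set_option linter.unusedSectionVars false

open Module QuadraticMap
open Cfsg Cfsg.Agent.Lib.Forms Cfsg.Agent.Lib.OrthOmega
open Cfsg.Agent.Lib.FischerMTypes.Primitive (perp)
open Cfsg.Agent.Lib.ThreeTranspositions
open Cfsg.Agent.Lib.FischerOrthModels51 (Pts exists_pts_perp)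

namespace Cfsg.Agent.Lib.FischerOrth68

universe u

section Third

variable {V : Type} [AddCommGroup V] [Module (ZMod 3) V] [FiniteDimensional (ZMod 3) V]
  {Q : QuadraticForm (ZMod 3) V} {c : ZMod 3}

local notation "B" => QuadraticMap.polar (Q : V → ZMod 3)

/-- In dimension at least six the third point of a line is determined by the graph. -/
theorem third_of_graph (hQ : Nondeg Q) (h6 : 6 ≤ finrank (ZMod 3) V) (hc : c ≠ 0) {u v z : V}
    (hu : Q u = c) (hv : Q v = c) (hz : Q z = c) (huv : B u v ≠ 0) (hvu : ¬ Same v u) (hzu : ¬ Same z u)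
    (hzv : ¬ Same z v) (h : ∀ p, Q p = c → B p u = 0 → B p v = 0 → B p z = 0) :
    Same z ((orefl Q u).1 v) := by
  have hu2 : (2 : ZMod 3) * Q u ≠ 0 := by rw [hu]; exact mul_ne_zero two_ne' hc
  let K : Submodule (ZMod 3) V := LinearMap.ker (polarBilin Q u)
  have hK : Nondeg (res Q K) := by
    intro x hx
    refine Subtype.ext (hQ _ fun y => ?_)
    have hax : B u (x : V) = 0 := x.2
    have hy : y - (B u y / (2 * Q u)) • u ∈ K := by
      show B u _ = 0
      rw [polar_sub_right, polar_smul_right, polar_self', smul_eq_mul, div_mul_cancel₀ _ hu2, sub_self]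
    have h0 := hx ⟨_, hy⟩
    rw [res_polar, polar_sub_right, polar_smul_right, polar_comm Q (x : V) u, hax, smul_zero,
      sub_zero] at h0
    exact h0
  have hKdim : 5 ≤ finrank (ZMod 3) K := by
    have h1 := LinearMap.finrank_range_add_finrank_ker (polarBilin Q u)
    have h3 := Submodule.finrank_le (LinearMap.range (polarBilin Q u))
    rw [finrank_self] at h3
    show 5 ≤ finrank (ZMod 3) (LinearMap.ker (polarBilin Q u))
    omega
  obtain ⟨hw, huw⟩ := line_facts hc hu hv huv
  set k := c * B u v with hk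
  have hk0 : k ≠ 0 := mul_ne_zero hc huv
  set w := dir Q c u v with hwdef
  have hvw : v = w - k • u := by rw [hwdef, dir, ← hk, add_sub_cancel_right]
  have hw0 : w ≠ 0 := fun h0 => hvu (by
    rw [h0, zero_sub] at hvw
    rcases pm_one k hk0 with e | e <;> rw [e] at hvw
    · exact Or.inr (by rw [hvw, one_smul])
    · exact Or.inl (by rw [hvw, neg_one_smul, neg_neg]))
  let w' : K := ⟨w, huw⟩
  have hw'0 : w' ≠ 0 := fun h0 => hw0 (congrArg Subtype.val h0)
  have hw' : res Q K w' = 0 := hw
  have hlev : ∀ p : K, res Q K p = c → B (p : V) w = 0 → B (p : V) z = 0 := fun p hp hpw => by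
    have hpu : B (p : V) u = 0 := by rw [polar_comm]; exact p.2
    refine h p hp hpu ?_
    rw [hvw, polar_sub_right, polar_smul_right, hpw, hpu, smul_zero, sub_zero]
  obtain ⟨r, hr, hrw⟩ := exists_level_sing hK hKdim hw'0 hw' c
  have hrw0 : polar (res Q K) r w' = 0 := hrw
  obtain ⟨r', hr', hr'r, hr'w⟩ := exists_level_perp_sing hK hKdim (a := r) (hr ▸ hc) hw'0 hw' hrw0 c
  rw [res_polar] at hrw hr'r hr'w
  have hrz : B (r : V) z = 0 := hlev r hr hrw
  have hr'z : B (r' : V) z = 0 := hlev r' hr' hr'w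
  have hQr : Q (r : V) = c := hr
  have hQr' : Q (r' : V) = c := hr'
  have hperp : ∀ x : V, B u x = 0 → B x w = 0 → B x z = 0 := by
    intro x hux hxw
    by_contra hne
    have key : ∀ q b b' c : ZMod 3, c ≠ 0 → ∃ a a' : ZMod 3,
        q + a * a * c + a' * a' * c + a * b + a' * b' = c := by decide
    obtain ⟨a, a', he⟩ := key (Q x) (B x (r : V)) (B x (r' : V)) c hc
    have hmem : x + a • (r : V) + a' • (r' : V) ∈ K := by
      refine add_mem (add_mem (show x ∈ K from hux) (K.smul_mem a r.2)) (K.smul_mem a' r'.2)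
    have h1 := hlev ⟨_, hmem⟩ (by
        show Q (x + a • (r : V) + a' • (r' : V)) = c
        simp only [Q_add, Q_smul, polar_add_left, polar_smul_left, polar_smul_right, smul_eq_mul,
          polar_comm Q (r : V) (r' : V), hr'r, hQr, hQr']
        linear_combination he)
      (by
        show B (x + a • (r : V) + a' • (r' : V)) w = 0
        rw [polar_add_left, polar_add_left, polar_smul_left, polar_smul_left, hxw, hrw, hr'w,
          smul_zero, smul_zero, add_zero, add_zero])
    rw [polar_add_left, polar_add_left, polar_smul_left, polar_smul_left, hrz, hr'z, smul_zero,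
      smul_zero, add_zero, add_zero] at h1
    exact hne h1
  have hwz : B w z = 0 := hperp w huw (by rw [polar_self', hw, mul_zero])
  obtain ⟨g', hg'⟩ := exists_polar_eq_one hK hw'0
  rw [res_polar] at hg'
  change B w (g' : V) = 1 at hg'
  set g : V := (g' : V) with hgdef
  have hug : B u g = 0 := g'.2
  have hwu : B w u = 0 := by rw [polar_comm]; exact huw
  have hzeq : z = (B u z / (2 * Q u)) • u + B g z • w := by
    refine sub_eq_zero.1 (hQ _ fun y => ?_)
    set b := B w y with hb
    set a := B u y / (2 * Q u) with ha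
    have h1 := hperp (y - a • u - b • g)
      (by simp only [polar_sub_right, polar_smul_right, smul_eq_mul, polar_self', hug]
          rw [ha, div_mul_cancel₀ _ hu2]; ring)
      (by rw [polar_comm]; simp only [polar_sub_right, polar_smul_right, smul_eq_mul, hwu, hg', hb]
          ring)
    simp only [polar_sub_left, polar_smul_left, smul_eq_mul] at h1
    rw [polar_sub_left, polar_add_left, polar_smul_left, polar_smul_left, smul_eq_mul, smul_eq_mul,
      polar_comm Q z y, ← hb]
    rw [ha] at h1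
    field_simp at h1 ⊢
    linear_combination h1
  set α := B u z / (2 * Q u)
  set γ := B g z
  have hα : α * α = 1 := by
    have h1 := hz
    rw [hzeq, Q_add, Q_smul, Q_smul, polar_smul_left, polar_smul_right, huw, hu, hw, mul_zero,
      smul_zero, smul_zero, add_zero, add_zero] at h1
    exact mul_right_cancel₀ hc (h1.trans (one_mul c).symm)
  have hγ : γ ≠ 0 := fun h0 => hzu (by
    rw [h0, zero_smul, add_zero] at hzeq
    rcases mul_self_eq_one_iff.1 hα with e | e <;> rw [e] at hzeq
    · exact Or.inl (by rw [hzeq, one_smul])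
    · exact Or.inr (by rw [hzeq, neg_one_smul]))
  have hrv : (orefl Q u).1 v = w + k • u := by
    have h3 : ∀ k : ZMod 3, -(k + k) = k := by decide
    rw [refl_eq hu, ← hk, hvw]
    linear_combination (norm := module) h3 k • u
  have key : ∀ α γ k : ZMod 3, α * α = 1 → γ ≠ 0 → k ≠ 0 → α = γ * k ∨ α = -(γ * k) := by decide
  rcases key α γ k hα hγ hk0 with e | e
  · rw [hrv]
    rcases pm_one γ hγ with e' | e'
    · exact Or.inl (by rw [hzeq, e, e']; module)
    · exact Or.inr (by rw [hzeq, e, e']; module)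
  · refine absurd ?_ hzv
    rcases pm_one γ hγ with e' | e'
    · exact Or.inl (by rw [hzeq, hvw, e, e']; module)
    · exact Or.inr (by rw [hzeq, hvw, e, e']; module)

end Third

section Space

variable {n : ℕ}

/-- a vector of the larger space -/
def pt (t : ZMod 3) (v : Fin n → ZMod 3) : Fin (n + 1) → ZMod 3 := Fin.cons t v

theorem pt_add (t s : ZMod 3) (v w : Fin n → ZMod 3) : pt t v + pt s w = pt (t + s) (v + w) := by
  funext i; cases i using Fin.cases <;> simp [pt]

theorem pt_neg (t : ZMod 3) (v : Fin n → ZMod 3) : -pt t v = pt (-t) (-v) := by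
  funext i; cases i using Fin.cases <;> simp [pt]

theorem pt_inj {t s : ZMod 3} {v w : Fin n → ZMod 3} (h : pt t v = pt s w) : t = s ∧ v = w :=
  ⟨by simpa [pt] using congrFun h 0, funext fun i => by simpa [pt] using congrFun h i.succ⟩

theorem pt_eta (x : Fin (n + 1) → ZMod 3) : pt (x 0) (Fin.tail x) = x := Fin.cons_self_tail x

theorem Same.pt_iff {t s : ZMod 3} {v w : Fin n → ZMod 3} :
    Same (pt t v) (pt s w) ↔ (t = s ∧ v = w) ∨ (t = -s ∧ v = -w) := by
  constructor
  · rintro (h | h)
    · exact Or.inl (pt_inj h)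
    · rw [pt_neg] at h; exact Or.inr (pt_inj h)
  · rintro (⟨rfl, rfl⟩ | ⟨rfl, rfl⟩)
    · exact Or.inl rfl
    · exact Or.inr (pt_neg s w).symm

/-- the form one dimension up -/
noncomputable def extForm (Q : QuadraticForm (ZMod 3) (Fin n → ZMod 3)) (c : ZMod 3) :
    QuadraticForm (ZMod 3) (Fin (n + 1) → ZMod 3) :=
  c • QuadraticMap.linMulLin (LinearMap.proj 0) (LinearMap.proj 0) +
    Q.comp (LinearMap.funLeft (ZMod 3) (ZMod 3) Fin.succ)

variable {Q : QuadraticForm (ZMod 3) (Fin n → ZMod 3)} {c : ZMod 3}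

theorem extForm_pt (t : ZMod 3) (v : Fin n → ZMod 3) : extForm Q c (pt t v) = c * (t * t) + Q v := by
  have e : LinearMap.funLeft (ZMod 3) (ZMod 3) Fin.succ (pt t v) = v := funext fun i => by simp [pt]
  show c • (pt t v 0 * pt t v 0) + Q (LinearMap.funLeft (ZMod 3) (ZMod 3) Fin.succ (pt t v)) = _
  rw [e, smul_eq_mul, show pt t v 0 = t from rfl]

theorem polar_pt (t s : ZMod 3) (v w : Fin n → ZMod 3) :
    polar (extForm Q c) (pt t v) (pt s w) = 2 * c * (t * s) + polar Q v w := by
  simp only [polar, pt_add, extForm_pt]; ring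

theorem extForm_nondeg (hQ : Nondeg Q) (hc : c ≠ 0) : Nondeg (extForm Q c) := by
  intro x hx
  rw [← pt_eta x] at hx ⊢
  have h0 : x 0 = 0 := by
    have h1 := hx (pt 1 0)
    rw [polar_pt, polar_zero_right, add_zero, mul_one] at h1
    exact (mul_eq_zero.1 h1).resolve_left (mul_ne_zero two_ne' hc)
  have h2 : Fin.tail x = 0 := hQ _ fun w => by
    have h1 := hx (pt 0 w)
    rwa [polar_pt, mul_zero, mul_zero, zero_add] at h1
  rw [h0, h2]
  funext i; cases i using Fin.cases <;> simp [pt]

end Space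

section Points

variable {n : ℕ} {Q : QuadraticForm (ZMod 3) (Fin n → ZMod 3)} {c : ZMod 3}
variable {G : Type u} [Group G] [Finite G] {D : Set G} {d : G} {f : G → Fin n → ZMod 3}

open Classical in
/-- the point of a member -/
noncomputable def point (d : G) (f φ : G → Fin n → ZMod 3) (y : G) : Fin (n + 1) → ZMod 3 :=
  if y = d then pt 1 0 else if Commute d y then pt 0 (f y) else pt 1 (φ y)

variable (C : Ctx D d Q c f)
include C

/-- A point model of the whole class. -/
theorem Ctx.exists_pts (hconn : (commutingGraph D).Connected) (hfar : ∃ y, Far D d y) :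
    ∃ rt, Pts D (extForm Q c) c rt := by
  classical
  obtain ⟨φ, hφ⟩ := C.exists_signed hconn
  obtain ⟨x0, hx0⟩ := hfar
  have hdir := fun y hy => (hφ y hy).1
  have hadj : ∀ y, Far D d y → ∀ z, Far D d z → (Adj y z ↔ polar Q (φ y) (φ z) = c) :=
    fun y hy => (hφ y hy).2
  have hreach : ∀ u : Fin n → ZMod 3, u ≠ 0 → Q u = 0 →
      ∃ x, Far D d x ∧ ∃ s : ZMod 3, s ≠ 0 ∧ φ x = s • u := by
    intro u hu0 hu
    obtain ⟨x, w, hx, hw, s, hs, rfl⟩ := C.exists_far hx0 (hdir x0 hx0) hu0 hu
    obtain ⟨t, ht, he⟩ := C.dir_unique hw (hdir x hx)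
    exact ⟨x, hx, t * s, mul_ne_zero ht hs, by rw [he, smul_smul]⟩
  have hflip : ∀ y, Far D d y → φ (d * y * d) = -φ y := by
    intro y hy
    have hy' := C.far_flip hy
    obtain ⟨s, hs, he⟩ := C.dir_unique (C.dir_flip (hdir y hy)) (hdir _ hy')
    rcases pm_one s hs with rfl | rfl
    swap
    · rw [he, neg_one_smul]
    exfalso
    rw [one_smul] at he
    obtain ⟨g, hg⟩ := exists_hypPair C.hQ (hdir y hy).1 (hdir y hy).2.1
    obtain ⟨z, hz, t, ht, htg⟩ := hreach g
      (fun h0 => by have := hg.pol; rw [h0, polar_zero_right] at this; exact zero_ne_one this) hg.right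
    have hyz : polar Q (φ y) (φ z) ≠ 0 := by
      rw [htg, polar_smul_right, hg.pol, smul_eq_mul, mul_one]; exact ht
    have h1 := C.flip_iff hz hy (hdir z hz) (hdir y hy) (by rw [polar_comm]; exact hyz)
    have hne : z ≠ y := fun e => hyz (by rw [e, polar_self', (hdir y hy).2.1, mul_zero])
    have hne' : z ≠ d * y * d := fun e => hyz (by
      rw [e, he, polar_self', (hdir y hy).2.1, mul_zero])
    have h2 : Adj z y ↔ Adj z (d * y * d) := by
      rw [hadj z hz y hy, hadj z hz _ hy', he]
    by_cases hzy : Commute z y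
    · exact h1.1 hzy (h2.1 ⟨hzy, hne⟩).1
    · exact hzy (h2.2 ⟨not_not.1 fun h => hzy (h1.2 h), hne'⟩).1
  set rt := point d f φ with hrt
  have rd : rt d = pt 1 0 := if_pos rfl
  have rp : ∀ p ∈ perp D d, rt p = pt 0 (f p) := fun p hp => by
    rw [hrt, point, if_neg hp.2.1, if_pos hp.2.2]
  have rf : ∀ y, Far D d y → rt y = pt 1 (φ y) := fun y hy => by
    rw [hrt, point, if_neg (fun e => hy.2 (by rw [e])), if_neg hy.2]
  have cases3 : ∀ y ∈ D, y = d ∨ y ∈ perp D d ∨ Far D d y := fun y hy => by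
    by_cases h1 : y = d
    · exact Or.inl h1
    by_cases h2 : Commute d y
    · exact Or.inr (Or.inl ⟨hy, h1, h2⟩)
    · exact Or.inr (Or.inr ⟨hy, h2⟩)
  have h10 : ¬ ((1 : ZMod 3) = -1) := by decide
  have hnorm : ∀ y ∈ D, extForm Q c (rt y) = c := by
    intro y hy
    rcases cases3 y hy with rfl | hp | hf
    · rw [rd, extForm_pt, QuadraticMap.map_zero, mul_one, mul_one, add_zero]
    · rw [rp y hp, extForm_pt, C.M.level y hp, mul_zero, mul_zero, zero_add]
    · rw [rf y hf, extForm_pt, (hdir y hf).2.1, mul_one, mul_one, add_zero]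
  have hsurj : ∀ x, extForm Q c x = c → ∃ y ∈ D, Same (rt y) x := by
    intro x hx
    rw [← pt_eta x] at hx ⊢
    rw [extForm_pt] at hx
    generalize x 0 = t at hx ⊢
    generalize Fin.tail x = u at hx ⊢
    by_cases ht : t = 0
    · obtain ⟨p, hp, sp⟩ := C.M.surj u (by rw [ht] at hx; simpa using hx)
      refine ⟨p, hp.1, ?_⟩
      rw [rp p hp, Same.pt_iff, ht, neg_zero]
      exact sp.imp (fun h => ⟨rfl, h⟩) fun h => ⟨rfl, h⟩
    rw [sq_one t ht, mul_one, add_eq_left] at hx
    by_cases hu : u = 0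
    · refine ⟨d, C.hd, ?_⟩
      rw [rd, Same.pt_iff, hu, neg_zero]
      rcases pm_one t ht with rfl | rfl
      · exact Or.inl ⟨rfl, rfl⟩
      · exact Or.inr ⟨(neg_neg 1).symm, rfl⟩
    obtain ⟨y, hy, s, hs, he⟩ := hreach u hu hx
    rcases pm_one s hs with rfl | rfl <;> rcases pm_one t ht with rfl | rfl
    · exact ⟨y, hy.1, by rw [rf y hy, Same.pt_iff]; exact Or.inl ⟨rfl, by rw [he, one_smul]⟩⟩
    · refine ⟨_, (C.far_flip hy).1, ?_⟩
      rw [rf _ (C.far_flip hy), Same.pt_iff]
      exact Or.inr ⟨(neg_neg 1).symm, by rw [hflip y hy, he, one_smul]⟩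
    · refine ⟨_, (C.far_flip hy).1, ?_⟩
      rw [rf _ (C.far_flip hy), Same.pt_iff]
      exact Or.inl ⟨rfl, by rw [hflip y hy, he, neg_one_smul, neg_neg]⟩
    · exact ⟨y, hy.1, by
        rw [rf y hy, Same.pt_iff]; exact Or.inr ⟨(neg_neg 1).symm, by rw [he, neg_one_smul]⟩⟩
  have hinj : ∀ y ∈ D, ∀ z ∈ D, Same (rt y) (rt z) → y = z := by
    intro y hy z hz h
    rcases cases3 y hy with rfl | hyp | hyf <;> rcases cases3 z hz with rfl | hzp | hzf
    · rfl
    · rw [rd, rp z hzp, Same.pt_iff] at h; simp at h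
    · rw [rd, rf z hzf, Same.pt_iff] at h
      rcases h with ⟨-, e⟩ | ⟨e, -⟩
      · exact absurd e.symm (hdir z hzf).1
      · exact absurd e h10
    · rw [rd, rp y hyp, Same.pt_iff] at h; simp at h
    · rw [rp y hyp, rp z hzp, Same.pt_iff] at h
      exact C.M.inj y hyp z hzp (h.imp (fun h => h.2) fun h => h.2)
    · rw [rp y hyp, rf z hzf, Same.pt_iff] at h; simp at h
    · rw [rd, rf y hyf, Same.pt_iff] at h
      rcases h with ⟨-, e⟩ | ⟨e, -⟩
      · exact absurd e (hdir y hyf).1
      · exact absurd e h10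
    · rw [rp z hzp, rf y hyf, Same.pt_iff] at h; simp at h
    · rw [rf y hyf, rf z hzf, Same.pt_iff] at h
      rcases h with ⟨-, e⟩ | ⟨e, -⟩
      swap
      · exact absurd e h10
      rcases C.dir_inj hyf hzf (hdir y hyf) (hdir z hzf) one_ne_zero (by rw [one_smul, e]) with r | r
      · exact r.symm
      · exfalso
        rw [r, hflip y hyf] at e
        refine (hdir y hyf).1 ((smul_eq_zero.1 (?_ : (2 : ZMod 3) • φ y = 0)).resolve_left two_ne')
        rw [two_smul]; exact eq_neg_iff_add_eq_zero.1 e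
  have hcomm : ∀ y ∈ D, ∀ z ∈ D, y ≠ z →
      (Commute y z ↔ polar (extForm Q c) (rt y) (rt z) = 0) := by
    have h2c : (2 : ZMod 3) * c * (1 * 1) ≠ 0 := by rw [mul_one, mul_one]; exact mul_ne_zero two_ne' C.hc
    have hfd : ∀ z, Far D d z → polar (extForm Q c) (rt d) (rt z) ≠ 0 := fun z hz => by
      rw [rd, rf z hz, polar_pt, polar_zero_left, add_zero]; exact h2c
    have hpd : ∀ z ∈ perp D d, polar (extForm Q c) (rt d) (rt z) = 0 := fun z hz => by
      rw [rd, rp z hz, polar_pt, polar_zero_left, mul_zero, mul_zero, add_zero]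
    have hpf : ∀ p ∈ perp D d, ∀ z, Far D d z →
        (Commute p z ↔ polar (extForm Q c) (rt p) (rt z) = 0) := fun p hp z hz => by
      rw [rp p hp, rf z hz, polar_pt, zero_mul, mul_zero, zero_add]; exact (hdir z hz).2.2 p hp
    intro y hy z hz hne
    rcases cases3 y hy with rfl | hyp | hyf <;> rcases cases3 z hz with rfl | hzp | hzf
    · exact absurd rfl hne
    · exact iff_of_true hzp.2.2 (hpd z hzp)
    · exact iff_of_false hzf.2 (hfd z hzf)
    · exact iff_of_true hyp.2.2.symm (by rw [polar_comm]; exact hpd y hyp)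
    · rw [rp y hyp, rp z hzp, polar_pt, zero_mul, mul_zero, zero_add, ← C.M.adj y hyp z hzp]
      exact ⟨fun h => ⟨h, hne⟩, fun h => h.1⟩
    · exact hpf y hyp z hzf
    · exact iff_of_false (fun h => hyf.2 h.symm) (by rw [polar_comm]; exact hfd y hyf)
    · rw [polar_comm, ← hpf z hzp y hyf]; exact ⟨Commute.symm, Commute.symm⟩
    · rw [rf y hyf, rf z hzf, polar_pt, mul_one, mul_one]
      have key : ∀ c b : ZMod 3, 2 * c + b = 0 ↔ b = c := by decide
      rw [key, ← hadj y hyf z hzf]
      exact ⟨fun h => ⟨h, hne⟩, fun h => h.1⟩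
  refine ⟨rt, hnorm, hsurj, fun e he e' he' h => hinj e' he' e he h, hcomm,
    fun x hx y hy => third_mem C.closed hx hy, fun x hx y hy => ?_⟩
  show Same (rt (x * y * x)) _
  by_cases hxy : Commute x y
  · rw [show x * y * x = y by rw [hxy.eq, mul_assoc, mul_self C.hD.1 hx, mul_one]]
    by_cases he : x = y
    · subst he
      refine Or.inr ?_
      rw [show (orefl (extForm Q c) (rt x)).1 (rt x) = -rt x from
        refl_self _ (by rw [hnorm x hx]; exact C.hc), neg_neg]
    · exact Or.inl (refl_fix _ ((hcomm x hx y hy he).1 hxy)).symm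
  have hxne : x ≠ y := fun e => hxy (e ▸ Commute.refl x)
  have hz : x * y * x ∈ D := third_mem C.closed hx hy
  have hzx : x * y * x ≠ x := fun e => hxne (by
    calc x = x * x * x := by rw [mul_self C.hD.1 hx, one_mul]
      _ = x * (x * y * x) * x := by rw [e]
      _ = y := C.self_inv hx y)
  have hzy' := third_not_commute_right C.closed hx hy hxy
  have hzy : x * y * x ≠ y := fun e => hzy' (by rw [e])
  refine third_of_graph (extForm_nondeg C.hQ C.hc) ?_ C.hc (hnorm x hx) (hnorm y hy) (hnorm _ hz)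
    (fun h => hxy ((hcomm x hx y hy hxne).2 h)) (fun h => hxne (hinj y hy x hx h).symm)
    (fun h => hzx (hinj _ hz x hx h)) (fun h => hzy (hinj _ hz y hy h)) fun P hP hPx hPy => ?_
  · rw [finrank_fin_fun]
    have := C.h5
    rw [finrank_fin_fun] at this
    omega
  obtain ⟨p, hp, sp⟩ := hsurj P hP
  rw [← sp.polar_left] at hPx hPy ⊢
  have hpx : p ≠ x := fun e => two_Q_ne C.hc (hnorm x hx) (e ▸ hPx)
  have hpy : p ≠ y := fun e => two_Q_ne C.hc (hnorm y hy) (e ▸ hPy)
  have c1 := (hcomm p hp x hx hpx).2 hPx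
  have c2 := (hcomm p hp y hy hpy).2 hPy
  exact (hcomm p hp _ hz fun e => hzy' (e ▸ c2.symm)).1 ((c1.mul_right c2).mul_right c1)

end Points

/-- Node E of Fischer's theorem. -/
theorem nodeE : FischerThm.NodeE.{u} := by
  intro G _ _ D _ hP _ d hd n hn hO
  obtain ⟨Q, c, h⟩ := hO
  obtain ⟨f, hf⟩ := exists_pts_perp hP hd hn h
  have hQ : Nondeg Q := (nondeg_iff Q).1 h.1
  have hclass := class_of_primitive hP.hD hP.hprim
  have M : Model D d Q c f := by
    refine ⟨hf.norm, fun y hy z hz hs => hf.inj z hz y hy hs, hf.surj, fun y hy z hz => ?_,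
      fun y hy z hz => hf.conj z hz y hy⟩
    by_cases he : y = z
    · subst he
      exact iff_of_false (fun h => h.2 rfl) (two_Q_ne h.2.1 (hf.norm y hy))
    · rw [← hf.comm y hy z hz he]; exact ⟨fun h => h.1, fun h => ⟨h, he⟩⟩
  have C : Ctx D d Q c f := ⟨hclass, hd, hQ, by rw [finrank_fin_fun]; exact hn, h.2.1, M⟩
  have hconn := connected_of_primitive hclass hP.hprim (by
    obtain ⟨a, ha, b, hb, hne, hc⟩ := hP.hw
    exact ⟨a, ha, b, hb, hne.symm, hc⟩)
  have hgen : Subgroup.closure D = ⊤ := hP.hD.2.2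
  have hfar : ∃ y, Far D d y := by
    by_contra hcon
    push Not at hcon
    have h1 : d ∈ Subgroup.centralizer (Subgroup.closure D : Set G) := by
      rw [Subgroup.centralizer_closure, Subgroup.mem_centralizer_iff]
      intro y hy
      exact (not_not.1 fun hc => hcon y ⟨hy, hc⟩ : Commute d y).eq.symm
    rw [hgen, Subgroup.coe_top, Subgroup.centralizer_univ, hP.hZ, Subgroup.mem_bot] at h1
    exact ne_one hclass.1 hd h1
  obtain ⟨rt, hrt⟩ := C.exists_pts hconn hfar
  have hO' := hrt.isOrth3With (fun e he => mul_self hclass.1 he) hgen hP.hZ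
    ((nondeg_iff _).2 (extForm_nondeg hQ h.2.1)) h.2.1
  exact Or.inr (Or.inr (Or.inl ⟨n + 1, by omega, _, c, hO'⟩))

end Cfsg.Agent.Lib.FischerOrth68
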