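import Cfsg.Agent.Lib.FischerOrth68.Space
import Cfsg.Agent.Lib.FischerMTypes.Primitive

/-!
A coordinatisation of a perp set by the points of one norm of an orthogonal space over three elements.
-/
set_option autoImplicit false
set_option linter.unusedSectionVars false

open Module QuadraticMap
open Cfsg.Agent.Lib.Forms
open Cfsg.Agent.Lib.FischerMTypes.Primitive (perp)
open Cfsg.Agent.Lib.ThreeTranspositions (IsClosedSet)

namespace Cfsg.Agent.Lib.FischerOrth68

universe u

/-- equal up to sign -/
def Same {V : Type} [AddCommGroup V] (x y : V) : Prop := x = y ∨ x = -y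

/-- distinct and commuting -/
def Adj {G : Type u} [Group G] (p q : G) : Prop := Commute p q ∧ p ≠ q

variable {V : Type} [AddCommGroup V] [Module (ZMod 3) V] {Q : QuadraticForm (ZMod 3) V} {c : ZMod 3}

theorem Same.refl (x : V) : Same x x := Or.inl rfl

theorem Same.symm {x y : V} (h : Same x y) : Same y x := by
  rcases h with rfl | rfl
  · exact Or.inl rfl
  · exact Or.inr (neg_neg y).symm

theorem Same.trans {x y z : V} (h : Same x y) (h' : Same y z) : Same x z := by
  rcases h with rfl | rfl <;> rcases h' with rfl | rfl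
  · exact Or.inl rfl
  · exact Or.inr rfl
  · exact Or.inr rfl
  · exact Or.inl (neg_neg z)

theorem Same.map {W : Type} [AddCommGroup W] {F : Type*} [FunLike F V W] [AddMonoidHomClass F V W]
    (g : F) {x y : V} (h : Same x y) : Same (g x) (g y) := by
  rcases h with rfl | rfl
  · exact Or.inl rfl
  · exact Or.inr (map_neg g y)

theorem Same.level {x y : V} (h : Same x y) : Q x = Q y := by
  rcases h with rfl | rfl
  · rfl
  · exact QuadraticMap.map_neg Q y

theorem Same.polar_left {x y : V} (h : Same x y) (z : V) : polar Q x z = 0 ↔ polar Q y z = 0 := by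
  rcases h with rfl | rfl
  · rfl
  · rw [QuadraticMap.polar_neg_left, neg_eq_zero]

theorem Same.polar_right {x y : V} (h : Same x y) (z : V) : polar Q z x = 0 ↔ polar Q z y = 0 := by
  rw [polar_comm Q z x, polar_comm Q z y]; exact h.polar_left z

theorem Same.orefl_eq {x y : V} (h : Same x y) : orefl Q x = orefl Q y := by
  rcases h with rfl | rfl
  · rfl
  · rw [show -y = (-1 : ZMod 3) • y by rw [neg_one_smul]]
    exact Forms.SquareClass.orefl_smul (by decide) y

variable {G : Type u} [Group G]

/-- `f` numbers the transpositions commuting with `d` by the points of norm `c`, equivariantly. -/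
structure Model (D : Set G) (d : G) (Q : QuadraticForm (ZMod 3) V) (c : ZMod 3) (f : G → V) : Prop where
  level : ∀ y ∈ perp D d, Q (f y) = c
  inj : ∀ y ∈ perp D d, ∀ z ∈ perp D d, Same (f y) (f z) → y = z
  surj : ∀ v, Q v = c → ∃ y ∈ perp D d, Same (f y) v
  adj : ∀ y ∈ perp D d, ∀ z ∈ perp D d, (Adj y z ↔ polar Q (f y) (f z) = 0)
  conj : ∀ y ∈ perp D d, ∀ z ∈ perp D d, Same (f (z * y * z)) ((orefl Q (f z)).1 (f y))

variable {D : Set G} {d : G} {f : G → V}

/-- a model moves along conjugation -/
theorem Model.transport (hC : IsClosedSet D) (M : Model D d Q c f) (g : G) :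
    Model D (g * d * g⁻¹) Q c (fun y => f (g⁻¹ * y * g)) := by
  have hm : ∀ y ∈ perp D (g * d * g⁻¹), g⁻¹ * y * g ∈ perp D d := by
    rintro y ⟨hy, hne, hc'⟩
    refine ⟨by simpa using hC.2 g⁻¹ y hy, fun h => hne (by rw [← h]; group), ?_⟩
    have := (Commute.conj_iff g⁻¹).2 hc'
    simpa [mul_assoc] using this
  refine ⟨fun y hy => M.level _ (hm y hy), fun y hy z hz h => ?_, fun v hv => ?_, fun y hy z hz => ?_,
    fun y hy z hz => ?_⟩
  · simpa using M.inj _ (hm y hy) _ (hm z hz) h
  · obtain ⟨y, ⟨hy1, hy2, hy3⟩, hs⟩ := M.surj v hv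
    refine ⟨g * y * g⁻¹, ⟨hC.2 g y hy1, fun h => hy2 (by simpa using h), (Commute.conj_iff g).2 hy3⟩, ?_⟩
    simpa [mul_assoc] using hs
  · rw [← M.adj _ (hm y hy) _ (hm z hz)]
    have e : Commute (g⁻¹ * y * g) (g⁻¹ * z * g) ↔ Commute y z := by
      simpa using Commute.conj_iff g⁻¹ (a := y) (b := z)
    exact and_congr e.symm (by simp)
  · have e : g⁻¹ * (z * y * z) * g = (g⁻¹ * z * g) * (g⁻¹ * y * g) * (g⁻¹ * z * g) := by group
    show Same (f (g⁻¹ * (z * y * z) * g)) _
    rw [e]
    exact M.conj _ (hm y hy) _ (hm z hz)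

end Cfsg.Agent.Lib.FischerOrth68
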