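import Cfsg.Agent.Lib.FischerOrth68.Trace

/-!
Every pair off the perp set has a direction; commuting of pairs is non-orthogonality of directions.
-/
set_option autoImplicit false
set_option linter.unusedSectionVars false

open Module QuadraticMap
open Cfsg Cfsg.Agent.Lib.Forms Cfsg.Agent.Lib.OrthOmega
open Cfsg.Agent.Lib.FischerMTypes.Primitive (perp)
open Cfsg.Agent.Lib.ThreeTranspositions

namespace Cfsg.Agent.Lib.FischerOrth68

universe u

variable {V : Type} [AddCommGroup V] [Module (ZMod 3) V] {Q : QuadraticForm (ZMod 3) V} {c : ZMod 3}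
variable {G : Type u} [Group G] {D : Set G} {d : G} {f : G → V}

local notation "B" => QuadraticMap.polar (Q : V → ZMod 3)

variable [FiniteDimensional (ZMod 3) V] (C : Ctx D d Q c f)
include C

omit [FiniteDimensional (ZMod 3) V] in
theorem Ctx.self_inv {a : G} (ha : a ∈ D) (x : G) : a * (a * x * a) * a = x := by
  rw [show a * (a * x * a) * a = (a * a) * x * (a * a) by simp only [mul_assoc],
    mul_self C.hD.1 ha, one_mul, mul_one]

omit [FiniteDimensional (ZMod 3) V] in
theorem Ctx.perp_fix {p : G} (hp : p ∈ perp D d) : p * d * p⁻¹ = d := by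
  rw [← hp.2.2.eq, mul_inv_cancel_right]

theorem Ctx.far_perp_conj {p y : G} (hy : Far D d y) (hp : p ∈ perp D d) : Far D d (p * y * p) := by
  have := C.far_conj (C.perp_fix hp) hy
  rwa [inv_eq C.hD.1 hp.1] at this

theorem Ctx.far_flip {y : G} (hy : Far D d y) : Far D d (d * y * d) := by
  have := C.far_conj (h := d) (by rw [mul_inv_cancel_right]) hy
  rwa [inv_eq C.hD.1 C.hd] at this

omit [FiniteDimensional (ZMod 3) V] in
theorem Ctx.flip_ne {y : G} (hy : Far D d y) : d * y * d ≠ y := by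
  intro e
  exact hy.2 (show d * y = y * d by
    calc d * y = (d * y * d) * d := by rw [mul_mul_self C.hD.1 C.hd]
      _ = y * d := by rw [e])

omit [FiniteDimensional (ZMod 3) V] in
theorem Ctx.not_commute_flip {y : G} (hy : Far D d y) : ¬ Commute y (d * y * d) :=
  third_not_commute_right (isClosedSet_of_class C.hD) C.hd hy.1 hy.2

omit [FiniteDimensional (ZMod 3) V] in
/-- The third point of `y` and `p`, flipped, commutes with `y`. -/
theorem Ctx.commute_psi {p y : G} (hy : Far D d y) (hp : p ∈ perp D d) (hpy : ¬ Commute p y) :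
    Commute y (d * (p * y * p) * d) := by
  rw [braid C.hD.1 hp.1 hy.1 hpy]
  refine (Commute.conj_iff d).1 ?_
  rw [inv_eq C.hD.1 C.hd, C.self_inv C.hd, braid C.hD.1 C.hd hy.1 hy.2]
  have h := (Commute.conj_iff y).2 hp.2.2
  rwa [inv_eq C.hD.1 hy.1] at h

theorem Ctx.psi_mem {p y : G} (hy : Far D d y) (hp : p ∈ perp D d) (hpy : ¬ Commute p y) :
    d * (p * y * p) * d ∈ perp D y := by
  refine ⟨(C.far_flip (C.far_perp_conj hy hp)).1, fun e => ?_, C.commute_psi hy hp hpy⟩
  have h1 : p * y * p = d * y * d := by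
    rw [← congrArg (fun z => d * z * d) e, C.self_inv C.hd]
  rw [braid C.hD.1 hp.1 hy.1 hpy, braid C.hD.1 C.hd hy.1 hy.2] at h1
  exact hp.2.1 (by simpa [mul_assoc] using h1)

theorem Ctx.dir_perp_conj {p y : G} {w : V} (hp : p ∈ perp D d) (h : Dir D d Q f y w) :
    Dir D d Q f (p * y * p) ((orefl Q (f p)).1 w) := by
  have := C.dir_conj (g := orefl Q (f p)) (h := p) (C.perp_fix hp) (fun q hq => by
    rw [inv_eq C.hD.1 hp.1]; exact ⟨C.perp_conj hq hp, C.M.conj q hq p hp⟩) h
  rwa [inv_eq C.hD.1 hp.1] at this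

theorem Ctx.dir_flip {y : G} {w : V} (h : Dir D d Q f y w) : Dir D d Q f (d * y * d) w :=
  ⟨h.1, h.2.1, fun p hp => (C.commute_flip hp).trans (h.2.2 p hp)⟩

variable [Finite G]

theorem Ctx.ncard_perp {a : G} (ha : a ∈ D) : (perp D a).ncard = (perp D d).ncard := by
  obtain ⟨k, rfl⟩ := class_exists_conj C.hD C.hd ha
  rw [← Set.ncard_image_of_injective (perp D d) (MulAut.conj k).injective]
  congr 1
  have hg := isThreeTranspositionGroup_of_class C.hD
  ext z
  constructor
  · intro hz
    refine ⟨k⁻¹ * z * k, ?_, by simp [mul_assoc]⟩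
    have e : k * (k⁻¹ * z * k) * k⁻¹ = z := by group
    rw [← FischerMTypes.Primitive.conj_mem_perp_iff hg k, e]
    exact hz
  · rintro ⟨q, hq, rfl⟩
    exact (FischerMTypes.Primitive.conj_mem_perp_iff hg k d q).2 hq

/-- The members commuting with a member off the perp set. -/
theorem Ctx.neighbours {y z : G} (hy : Far D d y) (hz : z ∈ perp D y) (hzd : ¬ Commute d z) :
    ∃ p ∈ perp D d, ¬ Commute p y ∧ z = d * (p * y * p) * d := by
  classical
  let φ : G → G := fun p => if Commute p y then p else d * (p * y * p) * d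
  have hin : ∀ p ∈ perp D d, φ p ∈ perp D y := fun p hp => by
    by_cases hpy : Commute p y
    · rw [show φ p = p from if_pos hpy]
      exact ⟨hp.1, fun e => hy.2 (e ▸ hp.2.2), hpy.symm⟩
    · rw [show φ p = _ from if_neg hpy]; exact C.psi_mem hy hp hpy
  have hinj : Set.InjOn φ (perp D d) := by
    intro p hp q hq e
    by_cases hpy : Commute p y <;> by_cases hqy : Commute q y
    · rwa [show φ p = p from if_pos hpy, show φ q = q from if_pos hqy] at e
    · rw [show φ p = p from if_pos hpy, show φ q = _ from if_neg hqy] at e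
      exact absurd (e ▸ hp.2.2) (C.far_flip (C.far_perp_conj hy hq)).2
    · rw [show φ p = _ from if_neg hpy, show φ q = q from if_pos hqy] at e
      exact absurd (e ▸ hq.2.2) (C.far_flip (C.far_perp_conj hy hp)).2
    · rw [show φ p = _ from if_neg hpy, show φ q = _ from if_neg hqy] at e
      have e1 : p * y * p = q * y * q := mul_left_cancel (mul_right_cancel e)
      rw [braid C.hD.1 hp.1 hy.1 hpy, braid C.hD.1 hq.1 hy.1 hqy] at e1
      simpa [mul_assoc] using e1
  have himg : φ '' perp D d = perp D y := Set.eq_of_subset_of_ncard_le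
    (Set.image_subset_iff.2 hin) (by rw [hinj.ncard_image, C.ncard_perp hy.1]) (Set.toFinite _)
  rw [← himg] at hz
  obtain ⟨p, hp, rfl⟩ := hz
  by_cases hpy : Commute p y
  · rw [show φ p = p from if_pos hpy] at hzd
    exact absurd hp.2.2 hzd
  · exact ⟨p, hp, hpy, if_neg hpy⟩

theorem Ctx.near_step {y z : G} (hy : Far D d y) (hz : z ∈ perp D y) (hzd : ¬ Commute d z)
    (hn : ∃ a ∈ perp D d, Commute a y) : ∃ a ∈ perp D d, Commute a z := by
  obtain ⟨p, hp, -, rfl⟩ := C.neighbours hy hz hzd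
  obtain ⟨a, ha, hay⟩ := hn
  refine ⟨p * a * p, C.perp_conj ha hp, (C.commute_flip (C.perp_conj ha hp)).2 ?_⟩
  have h := (Commute.conj_iff p).2 hay
  rwa [inv_eq C.hD.1 hp.1] at h

/-- With a connected commuting graph every member is near `d`. -/
theorem Ctx.all_near (hconn : (commutingGraph D).Connected) {x : G} (hx : Far D d x) :
    ∃ a ∈ perp D d, Commute a x := by
  let P : D → Prop := fun z => Far D d z → ∃ a ∈ perp D d, Commute a (z : G)
  have key : ∀ {u v : D}, (commutingGraph D).Walk u v → P u → P v := by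
    intro u v w
    induction w with
    | nil => exact id
    | @cons u v' v hadj _ ih =>
      intro hu
      refine ih fun hv => ?_
      obtain ⟨hne, hc⟩ := (SimpleGraph.fromRel_adj _ _ _).1 hadj
      have huv : Commute (u : G) (v' : G) := hc.elim id (fun h => h.symm)
      by_cases hud : Commute d (u : G)
      · by_cases he : (u : G) = d
        · exact absurd (he ▸ huv) hv.2
        · exact ⟨u, ⟨u.2, he, hud⟩, huv⟩
      · exact C.near_step ⟨u.2, hud⟩ ⟨v'.2, fun e => hne (Subtype.ext e).symm, huv⟩ hv.2 (hu ⟨u.2, hud⟩)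
  obtain ⟨w⟩ := hconn.preconnected ⟨d, C.hd⟩ ⟨x, hx.1⟩
  exact key w (fun h => absurd (Commute.refl d) h.2) hx

/-- Commuting pairs have non-orthogonal directions. -/
theorem Ctx.polar_ne {y z : G} {w v : V} (hy : Far D d y) (hz : Far D d z) (hne : z ≠ y)
    (hyz : Commute y z) (h : Dir D d Q f y w) (h' : Dir D d Q f z v) : B w v ≠ 0 := by
  obtain ⟨p, hp, hpy, rfl⟩ := C.neighbours hy ⟨hz.1, hne, hyz⟩ hz.2
  obtain ⟨t, ht, rfl⟩ := C.dir_unique (C.dir_flip (C.dir_perp_conj hp h)) h'
  have hb : B (f p) w ≠ 0 := fun h0 => hpy ((h.2.2 p hp).2 h0)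
  rw [refl_eq (C.M.level _ hp), polar_smul_right, polar_sub_right, polar_smul_right, polar_self',
    h.2.1, polar_comm Q w (f p), smul_eq_mul, smul_eq_mul]
  have key : ∀ c β t : ZMod 3, c ≠ 0 → β ≠ 0 → t ≠ 0 → t * (2 * 0 - c * β * β) ≠ 0 := by decide
  exact key c _ t C.hc hb ht

/-- Non-orthogonal directions: the pair is reached by one member of the perp set. -/
theorem Ctx.exists_move {y z : G} {w v : V} (hy : Far D d y) (hz : Far D d z)
    (h : Dir D d Q f y w) (h' : Dir D d Q f z v) (hwv : B w v ≠ 0) :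
    ∃ p ∈ perp D d, ¬ Commute p y ∧ (z = p * y * p ∨ z = d * (p * y * p) * d) ∧
      ∃ s : ZMod 3, s ≠ 0 ∧ (orefl Q (f p)).1 w = s • v := by
  obtain ⟨u, s, hu, huw, hs, he⟩ := exists_refl_to C.hc h.2.1 h'.2.1 hwv
  obtain ⟨p, hp, sp⟩ := C.M.surj u hu
  have hpy : ¬ Commute p y := fun hc => huw ((sp.polar_left _).1 ((h.2.2 p hp).1 hc))
  refine ⟨p, hp, hpy, ?_, s, hs, by rw [sp.orefl_eq]; exact he⟩
  have hd' := C.dir_perp_conj hp h
  rw [sp.orefl_eq, he] at hd'
  exact C.dir_inj (C.far_perp_conj hy hp) hz hd' h' hs (by rw [smul_smul, sq_one s hs, one_smul])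

/-- Non-orthogonal directions: exactly one of a pair commutes. -/
theorem Ctx.flip_iff {y z : G} {w v : V} (hy : Far D d y) (hz : Far D d z) (h : Dir D d Q f y w)
    (h' : Dir D d Q f z v) (hwv : B w v ≠ 0) : Commute y z ↔ ¬ Commute y (d * z * d) := by
  obtain ⟨p, hp, hpy, hcase, -⟩ := C.exists_move hy hz h h' hwv
  have h1 : ¬ Commute y (p * y * p) := third_not_commute_right C.closed hp.1 hy.1 hpy
  have h2 := C.commute_psi hy hp hpy
  rcases hcase with rfl | rfl
  · exact iff_of_false h1 (not_not.2 h2)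
  · rw [C.self_inv C.hd]; exact iff_of_true h2 h1

end Cfsg.Agent.Lib.FischerOrth68
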