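import Cfsg.Agent.Lib.FischerOrth68.Pairs

/-!
Signs: vectors for the members off the perp set with commuting read off the polar form.
-/
set_option autoImplicit false
set_option linter.unusedSectionVars false

open Module QuadraticMap
open Cfsg Cfsg.Agent.Lib.Forms Cfsg.Agent.Lib.OrthOmega
open Cfsg.Agent.Lib.FischerMTypes.Primitive (perp)
open Cfsg.Agent.Lib.ThreeTranspositions

namespace Cfsg.Agent.Lib.FischerOrth68

universe u

variable {V : Type} [AddCommGroup V] [Module (ZMod 3) V] {Q : QuadraticForm (ZMod 3) V} {c : ZMod 3}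
variable {G : Type u} [Group G] {D : Set G} {d : G} {f : G → V}

local notation "B" => QuadraticMap.polar (Q : V → ZMod 3)

open Classical in
/-- `c` for commuting, `-c` otherwise -/
noncomputable def eps (c : ZMod 3) (y z : G) : ZMod 3 := if Commute y z then c else -c

/-- the sign making two chosen vectors follow the commuting rule -/
noncomputable def tau (Q : QuadraticForm (ZMod 3) V) (c : ZMod 3) (W : G → V) (y z : G) : ZMod 3 :=
  eps c y z * QuadraticMap.polar Q (W y) (W z)

theorem eps_symm (y z : G) : eps c y z = eps c z y := by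
  unfold eps
  by_cases h : Commute y z
  · rw [if_pos h, if_pos h.symm]
  · rw [if_neg h, if_neg fun h' => h h'.symm]

theorem tau_symm (W : G → V) (y z : G) : tau Q c W y z = tau Q c W z y := by
  unfold tau; rw [eps_symm, polar_comm]

theorem eps_ne (hc : c ≠ 0) (y z : G) : eps c y z ≠ 0 := by
  unfold eps; split
  · exact hc
  · exact neg_ne_zero.2 hc

variable [FiniteDimensional (ZMod 3) V] [Finite G] (C : Ctx D d Q c f)
include C

/-- every singular point is a direction -/
theorem Ctx.exists_far {x0 : G} {u0 z : V} (hx : Far D d x0) (h : Dir D d Q f x0 u0) (hz0 : z ≠ 0)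
    (hz : Q z = 0) : ∃ x w, Far D d x ∧ Dir D d Q f x w ∧ ∃ s : ZMod 3, s ≠ 0 ∧ w = s • z := by
  obtain ⟨m, hm, hm1, hm2⟩ := exists_common C.hQ (by have := C.h5; omega) h.1 hz0 h.2.1 hz
  have hm0 : B u0 m ≠ 0 := by rw [polar_comm, hm1]; exact one_ne_zero
  obtain ⟨p, s, hp, -, hs, he⟩ := exists_refl_to C.hc h.2.1 hm hm0
  obtain ⟨P, hP, sP⟩ := C.M.surj p hp
  have h1 := C.dir_perp_conj hP h
  rw [sP.orefl_eq, he] at h1
  obtain ⟨q, t, hq, -, ht, he'⟩ := exists_refl_to C.hc hm hz hm2
  obtain ⟨Q', hQ', sQ⟩ := C.M.surj q hq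
  have h2 := C.dir_perp_conj hQ' h1
  rw [sQ.orefl_eq, map_smul, he', smul_smul] at h2
  exact ⟨_, _, C.far_perp_conj (C.far_perp_conj hx hP) hQ', h2, s * t, mul_ne_zero hs ht, rfl⟩

/-- the two signs of a pair -/
theorem Ctx.eps_flip {y z : G} {w v : V} (hy : Far D d y) (hz : Far D d z) (h : Dir D d Q f y w)
    (h' : Dir D d Q f z v) (hwv : B w v ≠ 0) : eps c y (d * z * d) = -eps c y z := by
  have h1 := C.flip_iff hy hz h h' hwv
  unfold eps
  by_cases hc : Commute y z
  · rw [if_pos hc, if_neg (h1.1 hc)]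
  · rw [if_neg hc, if_pos (not_not.1 fun hn => hc (h1.2 hn)), neg_neg]

omit [FiniteDimensional (ZMod 3) V] [Finite G] in
theorem Ctx.line_both {x y p : G} (hp : p ∈ perp D d) (hy : y ∈ D) (hpy : ¬ Commute p y)
    (h1 : Commute x y) (h2 : Commute x (p * y * p)) : Commute p x := by
  have h3 : Commute x (y * (p * y * p) * y) := (h1.mul_right h2).mul_right h1
  rw [braid C.hD.1 hp.1 hy hpy, C.self_inv hy] at h3
  exact h3.symm

/-- three pairwise non-orthogonal directions -/
theorem Ctx.tri {x y z : G} {u v t : V} (hx : Far D d x) (hy : Far D d y) (hz : Far D d z)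
    (hu : Dir D d Q f x u) (hv : Dir D d Q f y v) (ht : Dir D d Q f z t) (huv : B u v ≠ 0)
    (hvt : B v t ≠ 0) (hut : B u t ≠ 0) :
    eps c x y * B u v * (eps c y z * B v t) = eps c x z * B u t := by
  obtain ⟨p, hp, hpy, hcase, s, hs, he⟩ := C.exists_move hy hz hv ht hvt
  have hz' := C.far_perp_conj hy hp
  have hd' := C.dir_perp_conj hp hv
  have htv : t = s • (orefl Q (f p)).1 v := by rw [he, smul_smul, sq_one s hs, one_smul]
  set r := (orefl Q (f p)).1 v with hr
  set β := B (f p) v with hβ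
  have hb : β ≠ 0 := fun h0 => hpy ((hv.2.2 p hp).2 h0)
  have hre : r = v - (c * β) • f p := refl_eq (C.M.level _ hp) v
  have hvr : B v r = -c := by
    rw [hre, polar_sub_right, polar_smul_right, polar_self', hv.2.1, polar_comm Q v (f p), ← hβ,
      smul_eq_mul]
    have : ∀ c β : ZMod 3, β ≠ 0 → 2 * 0 - c * β * β = -c := by decide
    exact this c β hb
  have hur : B u r = B u v - c * β * B (f p) u := by
    rw [hre, polar_sub_right, polar_smul_right, polar_comm Q u (f p), smul_eq_mul]
  have hur0 : B u r ≠ 0 := fun h0 => hut (by rw [htv, polar_smul_right, h0, smul_zero])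
  have e1 : eps c y (p * y * p) = -c := if_neg (third_not_commute_right C.closed hp.1 hy.1 hpy)
  have core : eps c x y * B u v = eps c x (p * y * p) * B u r := by
    by_cases hpx : Commute p x
    · have h0 : B (f p) u = 0 := (hu.2.2 p hp).1 hpx
      rw [hur, h0, mul_zero, sub_zero]
      congr 1
      have e : p * x * p = x := by rw [hpx.eq, mul_assoc, mul_self C.hD.1 hp.1, mul_one]
      have hiff : Commute x (p * y * p) ↔ Commute x y := by
        have := Commute.conj_iff p (a := x) (b := y)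
        rwa [inv_eq C.hD.1 hp.1, e] at this
      unfold eps
      by_cases hc : Commute x y
      · rw [if_pos hc, if_pos (hiff.2 hc)]
      · rw [if_neg hc, if_neg fun h => hc (hiff.1 h)]
    · have h0 : B (f p) u ≠ 0 := fun h0 => hpx ((hu.2.2 p hp).2 h0)
      have hneg : B u r = -B u v := by
        have : ∀ k b : ZMod 3, k ≠ 0 → b ≠ 0 → b - k ≠ 0 → b - k = -b := by decide
        rw [hur]; exact this _ _ (mul_ne_zero (mul_ne_zero C.hc hb) h0) huv (hur ▸ hur0)
      have heps : eps c x (p * y * p) = -eps c x y := by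
        unfold eps
        by_cases hc : Commute x y
        · rw [if_pos hc, if_neg fun h => hpx (C.line_both hp hy.1 hpy hc h)]
        · have hflip := not_not.1 fun hn => hc ((C.flip_iff hx hy hu hv huv).2 hn)
          rw [if_neg hc, neg_neg, if_pos]
          refine (C.flip_iff hx hz' hu hd' hur0).2 fun h2 => hpx ?_
          have e : d * (p * y * p) * d = p * (d * y * d) * p := by
            rw [show d * (p * y * p) * d = (d * p) * y * (p * d) by simp only [mul_assoc],
              show p * (d * y * d) * p = (p * d) * y * (d * p) by simp only [mul_assoc], hp.2.2.eq]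
          rw [e] at h2
          exact C.line_both hp (C.far_flip hy).1 (fun h => hpy ((C.commute_flip hp).1 h)) hflip h2
      rw [heps, hneg]; ring
  have hcc := sq_one c C.hc
  rcases hcase with rfl | rfl
  · rw [e1, htv, polar_smul_right, polar_smul_right, hvr, smul_eq_mul, smul_eq_mul, core]
    linear_combination (eps c x (p * y * p) * B u r * s) * hcc
  · rw [C.eps_flip hy hz' hv hd' (by rw [hvr]; exact neg_ne_zero.2 C.hc),
      C.eps_flip hx hz' hu hd' hur0, e1, htv, polar_smul_right, polar_smul_right, hvr, smul_eq_mul,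
      smul_eq_mul, core]
    linear_combination (-(eps c x (p * y * p) * B u r * s)) * hcc

omit [FiniteDimensional (ZMod 3) V] in
theorem Ctx.tau_self {W : G → V} {y z : G} (h : B (W y) (W z) ≠ 0) :
    tau Q c W y z * tau Q c W z y = 1 := by
  rw [← tau_symm W y z]
  exact sq_one _ (mul_ne_zero (eps_ne C.hc y z) h)

/-- coordinates following the commuting rule -/
theorem Ctx.exists_signed (hconn : (commutingGraph D).Connected) :
    ∃ φ : G → V, ∀ y, Far D d y → Dir D d Q f y (φ y) ∧
      ∀ z, Far D d z → (Adj y z ↔ B (φ y) (φ z) = c) := by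
  classical
  have hdir : ∀ y, ∃ w, Far D d y → Dir D d Q f y w := fun y => by
    by_cases hy : Far D d y
    · obtain ⟨w, hw⟩ := C.exists_dir hy (C.all_near hconn hy)
      exact ⟨w, fun _ => hw⟩
    · exact ⟨0, fun h => absurd h hy⟩
  choose W hW using hdir
  by_cases hX : ∃ x0, Far D d x0
  swap
  · exact ⟨W, fun y hy => absurd ⟨y, hy⟩ hX⟩
  obtain ⟨x0, hx0⟩ := hX
  have hsurj : ∀ z : V, z ≠ 0 → Q z = 0 → ∃ x, Far D d x ∧ ∃ s : ZMod 3, s ≠ 0 ∧ W x = s • z := by
    intro z hz0 hz
    obtain ⟨x, w, hx, hw, s, hs, rfl⟩ := C.exists_far hx0 (hW x0 hx0) hz0 hz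
    obtain ⟨t, ht, he⟩ := C.dir_unique hw (hW x hx)
    exact ⟨x, hx, t * s, mul_ne_zero ht hs, by rw [he, smul_smul]⟩
  have tri : ∀ x y z, Far D d x → Far D d y → Far D d z → B (W x) (W y) ≠ 0 → B (W y) (W z) ≠ 0 →
      B (W x) (W z) ≠ 0 → tau Q c W x y * tau Q c W y z = tau Q c W x z :=
    fun x y z hx hy hz h1 h2 h3 => C.tri hx hy hz (hW x hx) (hW y hy) (hW z hz) h1 h2 h3
  let Mid : G → G → Prop := fun y v => Far D d v ∧ B (W x0) (W v) ≠ 0 ∧ B (W v) (W y) ≠ 0
  let T : G → G → ZMod 3 := fun y v => tau Q c W x0 v * tau Q c W v y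
  have hop : ∀ y v v', Far D d y → Mid y v → Mid y v' → B (W v) (W v') ≠ 0 → T y v = T y v' := by
    rintro y v v' hy ⟨hv, v0, vy⟩ ⟨hv', v0', vy'⟩ hvv
    show _ * _ = _ * _
    rw [← tri x0 v v' hx0 hv hv' v0 hvv v0', ← tri v v' y hv hv' hy hvv vy' vy, mul_assoc]
  have hmid : ∀ y, ∃ v, Far D d y → Mid y v := fun y => by
    by_cases hy : Far D d y
    · obtain ⟨m, hm, hm1, hm2⟩ := exists_common C.hQ (by have := C.h5; omega) (hW x0 hx0).1 (hW y hy).1
        (hW x0 hx0).2.1 (hW y hy).2.1
      have hm0 : m ≠ 0 := fun h => hm2 (by rw [h, polar_zero_left])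
      obtain ⟨v, hv, s, hs, he⟩ := hsurj m hm0 hm
      refine ⟨v, fun _ => ⟨hv, ?_, ?_⟩⟩
      · rw [he, polar_smul_right, polar_comm Q (W x0) m, hm1, smul_eq_mul, mul_one]; exact hs
      · rw [he, polar_smul_left, smul_eq_mul]; exact mul_ne_zero hs hm2
    · exact ⟨y, fun h => absurd h hy⟩
  choose mid hmid using hmid
  have indep : ∀ y v v', Far D d y → Mid y v → Mid y v' → T y v = T y v' := by
    rintro y v v' hy ⟨hv, v0, vy⟩ ⟨hv', v0', vy'⟩
    by_cases h0y : B (W x0) (W y) ≠ 0
    · show _ * _ = _ * _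
      rw [tri x0 v y hx0 hv hy v0 vy h0y, tri x0 v' y hx0 hv' hy v0' vy' h0y]
    push Not at h0y
    by_cases hdep : ∃ s : ZMod 3, W y = s • W x0
    · obtain ⟨s, he⟩ := hdep
      have hs : s ≠ 0 := fun h => (hW y hy).1 (by rw [he, h, zero_smul])
      have hval : ∀ v, Far D d v → B (W x0) (W v) ≠ 0 → T y v = if y = x0 then 1 else -s := by
        intro v hv h0
        show tau Q c W x0 v * tau Q c W v y = _
        rcases C.dir_inj hx0 hy (hW x0 hx0) (hW y hy) hs he with rfl | e
        · rw [if_pos rfl]; exact C.tau_self h0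
        · have hne : y ≠ x0 := e ▸ C.flip_ne hx0
          rw [if_neg hne]
          have h1 : B (W v) (W x0) ≠ 0 := by rw [polar_comm]; exact h0
          have h2 : eps c v y = -eps c v x0 := by
            rw [e]; exact C.eps_flip hv hx0 (hW v hv) (hW x0 hx0) h1
          have h3 : tau Q c W v y = -s * tau Q c W v x0 := by
            unfold tau; rw [h2, he, polar_smul_right, smul_eq_mul]; ring
          rw [h3, mul_left_comm, C.tau_self h0, mul_one]
      rw [hval v hv v0, hval v' hv' v0']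
    push Not at hdep
    have c1 : B (W v) (W x0) ≠ 0 := by rw [polar_comm]; exact v0
    have c2 : B (W v') (W x0) ≠ 0 := by rw [polar_comm]; exact v0'
    rcases chain C.hQ (hW x0 hx0).1 (hW x0 hx0).2.1 (hW y hy).2.1 h0y hdep c1 vy c2 vy' with
      ⟨z, ⟨hz, hzu, hzt⟩, e1, e2⟩ | ⟨z, z', ⟨hz, hzu, hzt⟩, ⟨hz', hzu', hzt'⟩, e1, e2, e3⟩
    · obtain ⟨a, ha, s, hs, he⟩ := hsurj z (fun h => hzu (by rw [h, polar_zero_left])) hz
      have hMa : Mid y a := ⟨ha, by rw [he, polar_smul_right, polar_comm Q (W x0) z]; exact mul_ne_zero hs hzu,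
        by rw [he, polar_smul_left]; exact mul_ne_zero hs hzt⟩
      rw [hop y v a hy ⟨hv, v0, vy⟩ hMa (by rw [he, polar_smul_right]; exact mul_ne_zero hs e1),
        hop y a v' hy hMa ⟨hv', v0', vy'⟩ (by rw [he, polar_smul_left]; exact mul_ne_zero hs e2)]
    · obtain ⟨a, ha, s, hs, he⟩ := hsurj z (fun h => hzu (by rw [h, polar_zero_left])) hz
      obtain ⟨b, hb, s', hs', he'⟩ := hsurj z' (fun h => hzu' (by rw [h, polar_zero_left])) hz'
      have hMa : Mid y a := ⟨ha, by rw [he, polar_smul_right, polar_comm Q (W x0) z]; exact mul_ne_zero hs hzu,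
        by rw [he, polar_smul_left]; exact mul_ne_zero hs hzt⟩
      have hMb : Mid y b := ⟨hb, by rw [he', polar_smul_right, polar_comm Q (W x0) z']; exact mul_ne_zero hs' hzu',
        by rw [he', polar_smul_left]; exact mul_ne_zero hs' hzt'⟩
      rw [hop y v a hy ⟨hv, v0, vy⟩ hMa (by rw [he, polar_smul_right]; exact mul_ne_zero hs e1),
        hop y a b hy hMa hMb (by rw [he, he', polar_smul_left, polar_smul_right]
                                 exact mul_ne_zero hs (mul_ne_zero hs' e2)),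
        hop y b v' hy hMb ⟨hv', v0', vy'⟩ (by rw [he', polar_smul_left]; exact mul_ne_zero hs' e3)]
  let S : G → ZMod 3 := fun y => T y (mid y)
  have hS : ∀ y, Far D d y → S y ≠ 0 := fun y hy =>
    mul_ne_zero (mul_ne_zero (eps_ne C.hc _ _) (hmid y hy).2.1) (mul_ne_zero (eps_ne C.hc _ _) (hmid y hy).2.2)
  have hrule : ∀ y z, Far D d y → Far D d z → B (W y) (W z) ≠ 0 →
      S y * S z * B (W y) (W z) = eps c y z := by
    intro y z hy hz hyz
    have hzy : B (W z) (W y) ≠ 0 := by rw [polar_comm]; exact hyz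
    have hfin : tau Q c W y z * B (W y) (W z) = eps c y z := by
      unfold tau; rw [mul_assoc, sq_one _ hyz, mul_one]
    have at0 : ∀ y z, Far D d y → Far D d z → B (W y) (W z) ≠ 0 → B (W x0) (W y) ≠ 0 →
        S y * S z = tau Q c W y z := by
      intro y z hy hz hyz h0y
      have e1 : S y = tau Q c W x0 y := tri x0 _ y hx0 (hmid y hy).1 hy (hmid y hy).2.1 (hmid y hy).2.2 h0y
      have e2 : S z = tau Q c W x0 y * tau Q c W y z := indep z _ y hz (hmid z hz) ⟨hy, h0y, hyz⟩
      rw [e1, e2, ← mul_assoc]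
      have := C.tau_self h0y
      rw [← tau_symm W x0 y] at this
      rw [this, one_mul]
    by_cases h0y : B (W x0) (W y) ≠ 0
    · rw [at0 y z hy hz hyz h0y, hfin]
    by_cases h0z : B (W x0) (W z) ≠ 0
    · rw [mul_comm (S y), at0 z y hz hy hzy h0z, ← tau_symm W y z, hfin]
    push Not at h0y h0z
    obtain ⟨m, hm, m0, my, mz⟩ := exists_common3 C.hQ (hW x0 hx0).1 (hW x0 hx0).2.1 (hW y hy).2.1
      (hW z hz).2.1 h0y h0z hyz
    obtain ⟨v, hv, s, hs, he⟩ := hsurj m (fun h => m0 (by rw [h, polar_zero_left])) hm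
    have hv0 : B (W x0) (W v) ≠ 0 := by
      rw [he, polar_smul_right, polar_comm Q (W x0) m]; exact mul_ne_zero hs m0
    have hvy : B (W v) (W y) ≠ 0 := by rw [he, polar_smul_left]; exact mul_ne_zero hs my
    have hvz : B (W v) (W z) ≠ 0 := by rw [he, polar_smul_left]; exact mul_ne_zero hs mz
    have hyv : B (W y) (W v) ≠ 0 := by rw [polar_comm]; exact hvy
    rw [show S y = T y v from indep y _ v hy (hmid y hy) ⟨hv, hv0, hvy⟩,
      show S z = T z v from indep z _ v hz (hmid z hz) ⟨hv, hv0, hvz⟩]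
    have h1 := sq_one (tau Q c W x0 v) (mul_ne_zero (eps_ne C.hc _ _) hv0)
    have h2 := tri y v z hy hv hz hyv hvz hyz
    rw [← hfin, ← h2, tau_symm W y v]
    linear_combination (tau Q c W v y * tau Q c W v z * B (W y) (W z)) * h1
  refine ⟨fun y => S y • W y, fun y hy => ⟨⟨smul_ne_zero (hS y hy) (hW y hy).1, by
      rw [Q_smul, (hW y hy).2.1, mul_zero], fun p hp => ?_⟩, fun z hz => ?_⟩⟩
  · rw [(hW y hy).2.2 p hp, polar_smul_right, smul_eq_mul, mul_eq_zero, or_iff_right (hS y hy)]
  · rw [polar_smul_left, polar_smul_right, smul_eq_mul, smul_eq_mul]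
    by_cases hyz : B (W y) (W z) = 0
    · rw [hyz, mul_zero, mul_zero]
      exact iff_of_false (fun h => C.polar_ne hy hz h.2.symm h.1 (hW y hy) (hW z hz) hyz) C.hc.symm
    · rw [show S y * (S z * B (W y) (W z)) = eps c y z by rw [← mul_assoc]; exact hrule y z hy hz hyz]
      have hne : y ≠ z := fun e => hyz (by rw [e, polar_self', (hW z hz).2.1, mul_zero])
      have hcc : -c ≠ c := by
        have : ∀ c : ZMod 3, c ≠ 0 → -c ≠ c := by decide
        exact this c C.hc
      unfold eps
      by_cases hcm : Commute y z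
      · rw [if_pos hcm]; exact iff_of_true ⟨hcm, hne⟩ rfl
      · rw [if_neg hcm]; exact iff_of_false (fun h => hcm h.1) hcc

end Cfsg.Agent.Lib.FischerOrth68
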