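import Cfsg.Agent.Lib.ThreeTranspositions.ReflectThree

/-!
Points of one norm and singular points of a nondegenerate quadratic space over three elements:
sections, Siegel elements, transitivity, and chains of singular vectors.
-/
set_option autoImplicit false

open Module QuadraticMap
open Cfsg.Agent.Lib.Forms Cfsg.Agent.Lib.OrthOmega

namespace Cfsg.Agent.Lib.FischerOrth68

theorem sq_one : ∀ s : ZMod 3, s ≠ 0 → s * s = 1 := by decide

theorem inv_self' (s : ZMod 3) : s⁻¹ = s := by
  by_cases h : s = 0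
  · rw [h, inv_zero]
  · exact inv_eq_of_mul_eq_one_right (sq_one s h)

theorem pm_one : ∀ s : ZMod 3, s ≠ 0 → s = 1 ∨ s = -1 := by decide

theorem two_ne' : (2 : ZMod 3) ≠ 0 := by decide

theorem four_eq_one : (4 : ZMod 3) = 1 := by decide

variable {V : Type} [AddCommGroup V] [Module (ZMod 3) V] {Q : QuadraticForm (ZMod 3) V}

set_option quotPrecheck false in
local notation "B" => QuadraticMap.polar (⇑Q)

theorem two_Q_ne {c : ZMod 3} (hc : c ≠ 0) {u : V} (hu : Q u = c) : B u u ≠ 0 := by
  rw [polar_self', hu]; exact mul_ne_zero two_ne' hc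

/-- The singular direction of the line through two points of one norm. -/
def dir (Q : QuadraticForm (ZMod 3) V) (c : ZMod 3) (u v : V) : V :=
  v + (c * QuadraticMap.polar (⇑Q) u v) • u

theorem refl_eq {c : ZMod 3} {u : V} (hu : Q u = c) (x : V) :
    (orefl Q u).1 x = x - (c * B u x) • u := by
  rw [ThreeTranspositions.ReflectThree.orefl_apply, hu, inv_self']

variable {c : ZMod 3}

theorem line_facts (hc : c ≠ 0) {u v : V} (hu : Q u = c) (hv : Q v = c) (hs : B u v ≠ 0) :
    Q (dir Q c u v) = 0 ∧ B u (dir Q c u v) = 0 := by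
  have key : ∀ c s : ZMod 3, c ≠ 0 → s ≠ 0 →
      c + c * s * (c * s) * c + c * s * s = 0 ∧ s + c * s * (2 * c) = 0 := by decide
  obtain ⟨k1, k2⟩ := key c (B u v) hc hs
  constructor
  · rw [dir, Q_add, Q_smul, polar_smul_right, hu, hv, polar_comm Q v u, smul_eq_mul]; exact k1
  · rw [dir, polar_add_right, polar_smul_right, polar_self', hu, smul_eq_mul]; exact k2

/-- A vector is orthogonal to the direction exactly when it is orthogonal to all or none of the line. -/
theorem line_iff (hc : c ≠ 0) {u v p : V} (hu : Q u = c) (hs : B u v ≠ 0) :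
    B p (dir Q c u v) = 0 ↔
      ((B p u = 0 ↔ B p v = 0) ∧ (B p u = 0 ↔ B p ((orefl Q u).1 v) = 0)) := by
  have key : ∀ c s a b : ZMod 3, c ≠ 0 → s ≠ 0 →
      (b + c * s * a = 0 ↔ ((a = 0 ↔ b = 0) ∧ (a = 0 ↔ b - c * s * a = 0))) := by decide
  rw [refl_eq hu, dir, polar_add_right, polar_sub_right, polar_smul_right, smul_eq_mul]
  exact key c (B u v) (B p u) (B p v) hc hs

/-- The reflection carrying one singular point to a non-orthogonal one. -/
theorem exists_refl_to (hc : c ≠ 0) {w z : V} (hw : Q w = 0) (hz : Q z = 0) (h : B w z ≠ 0) :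
    ∃ p : V, ∃ s : ZMod 3, Q p = c ∧ B p w ≠ 0 ∧ s ≠ 0 ∧ (orefl Q p).1 w = s • z := by
  have key : ∀ c β : ZMod 3, c ≠ 0 → β ≠ 0 →
      -c * β ≠ 0 ∧ -(-c * β * β) = c ∧ c * -(-c * β * β) = 1 := by decide
  obtain ⟨k1, k2, k3⟩ := key c (B w z) hc h
  have hp : Q (w - (-c * B w z) • z) = c := by
    rw [sub_eq_add_neg, ← neg_smul, Q_add, Q_smul, polar_smul_right, hw, hz, smul_eq_mul]
    linear_combination k2
  have hpw : B (w - (-c * B w z) • z) w = -(-c * B w z * B w z) := by
    rw [polar_sub_left, polar_smul_left, polar_self', hw, polar_comm Q z w, smul_eq_mul]; ring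
  refine ⟨w - (-c * B w z) • z, -c * B w z, hp, by rw [hpw, k2]; exact hc, k1, ?_⟩
  rw [refl_eq hp, hpw, k3, one_smul, sub_sub_cancel]

section Dim

variable [FiniteDimensional (ZMod 3) V] (hQ : Nondeg Q)
include hQ

/-- A norm with three orthogonality conditions, one point anisotropic, one singular. -/
theorem exists_level_perp3 (h5 : 5 ≤ finrank (ZMod 3) V) {a b w : V} (ha : Q a ≠ 0) (hw : Q w = 0)
    (haw : B a w = 0) (hbw : B b w ≠ 0) (δ : ZMod 3) :
    ∃ p, Q p = δ ∧ B p a = 0 ∧ B p b = 0 ∧ B p w = 0 := by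
  let f : V →ₗ[ZMod 3] ZMod 3 × ZMod 3 × ZMod 3 :=
    (polarBilin Q a).prod ((polarBilin Q b).prod (polarBilin Q w))
  have hmem : ∀ x, x ∈ LinearMap.ker f ↔ B a x = 0 ∧ B b x = 0 ∧ B w x = 0 := fun x => by
    rw [LinearMap.mem_ker]
    exact ⟨fun h => ⟨congrArg Prod.fst h, congrArg (fun t => t.2.1) h, congrArg (fun t => t.2.2) h⟩,
      fun h => Prod.ext h.1 (Prod.ext h.2.1 h.2.2)⟩
  have hK : Nondeg (res Q (LinearMap.ker f)) := by
    rintro ⟨x, hx⟩ hxK
    obtain ⟨hxa, hxb, hxw⟩ := (hmem x).1 hx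
    refine Subtype.ext (hQ x fun y => ?_)
    set β := B w y / B w b with hβ
    set α := (B a y - β * B a b) / (2 * Q a) with hα
    set γ := (B b y - α * B b a - β * (2 * Q b)) / B b w with hγ
    have hwb : B w b ≠ 0 := by rw [polar_comm]; exact hbw
    have h2a : 2 * Q a ≠ 0 := mul_ne_zero two_ne' ha
    have hy : y - α • a - β • b - γ • w ∈ LinearMap.ker f := by
      refine (hmem _).2 ⟨?_, ?_, ?_⟩
      · simp only [polar_sub_right, polar_smul_right, smul_eq_mul, polar_self', haw]
        rw [hα, div_mul_cancel₀ _ h2a]; ring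
      · simp only [polar_sub_right, polar_smul_right, smul_eq_mul, polar_self', hγ]
        field_simp; ring
      · simp only [polar_sub_right, polar_smul_right, smul_eq_mul, polar_self', hw,
          show B w a = 0 by rw [polar_comm]; exact haw, hβ]
        field_simp; ring
    have h0 := hxK ⟨_, hy⟩
    rw [res_polar] at h0
    simp only [polar_sub_right, polar_smul_right, smul_eq_mul, polar_comm Q x a, polar_comm Q x b,
      polar_comm Q x w, hxa, hxb, hxw, mul_zero, sub_zero] at h0
    exact h0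
  have hd : 2 ≤ finrank (ZMod 3) (LinearMap.ker f) := by
    have h1 := LinearMap.finrank_range_add_finrank_ker f
    have h2 := Submodule.finrank_le (LinearMap.range f)
    rw [finrank_prod, finrank_prod, finrank_self] at h2
    omega
  obtain ⟨⟨p, hp⟩, hpδ⟩ := exists_Q_eq hK hd δ
  obtain ⟨h1, h2, h3⟩ := (hmem p).1 hp
  exact ⟨p, hpδ, by rwa [polar_comm], by rwa [polar_comm], by rwa [polar_comm]⟩

/-- A norm orthogonal to an anisotropic point and a singular one orthogonal to it. -/
theorem exists_level_perp_sing (h5 : 5 ≤ finrank (ZMod 3) V) {a w : V} (ha : Q a ≠ 0)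
    (hw0 : w ≠ 0) (hw : Q w = 0) (haw : B a w = 0) (δ : ZMod 3) :
    ∃ p, Q p = δ ∧ B p a = 0 ∧ B p w = 0 := by
  obtain ⟨f, hf⟩ := exists_polar_eq_one hQ hw0
  obtain ⟨p, h1, h2, -, h3⟩ :=
    exists_level_perp3 hQ h5 ha hw haw (b := f) (by rw [polar_comm, hf]; exact one_ne_zero) δ
  exact ⟨p, h1, h2, h3⟩

/-- A norm orthogonal to a singular point. -/
theorem exists_level_sing (h5 : 5 ≤ finrank (ZMod 3) V) {w : V} (hw0 : w ≠ 0) (hw : Q w = 0)
    (δ : ZMod 3) : ∃ p, Q p = δ ∧ B p w = 0 := by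
  obtain ⟨f, hp⟩ := exists_hypPair hQ hw0 hw
  have hd := hp.finrank_core
  obtain ⟨⟨p, hpm⟩, hpδ⟩ := exists_Q_eq (hp.nondeg_core hQ) (by omega) δ
  obtain ⟨h1, -⟩ := mem_core.mp hpm
  exact ⟨p, hpδ, by rw [polar_comm]; exact h1⟩

/-- The section of a singular point orthogonal to a norm point determines it. -/
theorem section_determines (h5 : 5 ≤ finrank (ZMod 3) V) (hc : c ≠ 0) {a w w' : V} (ha : Q a = c)
    (hw0 : w ≠ 0) (hw : Q w = 0) (haw : B a w = 0) (hw'0 : w' ≠ 0) (hw' : Q w' = 0)
    (haw' : B a w' = 0) (h : ∀ p, Q p = c → B p a = 0 → B p w = 0 → B p w' = 0) :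
    ∃ t : ZMod 3, t ≠ 0 ∧ w' = t • w := by
  have hww : B w w' = 0 := by
    by_contra hne
    obtain ⟨r, hr, hra, hrw', hrw⟩ := exists_level_perp3 hQ h5 (ha ▸ hc) hw haw (b := w')
      (by rw [polar_comm]; exact hne) c
    have h1 := h (r + w) (by rw [Q_add, hr, hw, hrw, add_zero, add_zero])
      (by rw [polar_add_left, hra, polar_comm Q w a, haw, add_zero])
      (by rw [polar_add_left, hrw, polar_self', hw, mul_zero, add_zero])
    rw [polar_add_left, hrw', zero_add] at h1
    exact hne h1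
  have hker : ∀ v, B v a = 0 → B v w = 0 → B v w' = 0 := by
    intro v hva hvw
    by_contra hne
    set t := (c - Q v) / B v w' with ht
    have h1 := h (v + t • w') (by
        rw [Q_add, Q_smul, hw', polar_smul_right, mul_zero, add_zero, smul_eq_mul, ht,
          div_mul_cancel₀ _ hne, add_sub_cancel])
      (by rw [polar_add_left, polar_smul_left, hva, polar_comm Q w' a, haw', smul_zero, add_zero])
      (by rw [polar_add_left, polar_smul_left, hvw, polar_comm Q w' w, hww, smul_zero, add_zero])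
    rw [polar_add_left, polar_smul_left, polar_self', hw', mul_zero, smul_zero, add_zero] at h1
    exact hne h1
  obtain ⟨f, hf⟩ := exists_polar_eq_one hQ hw0
  refine ⟨B f w', ?_, ?_⟩
  · intro h0
    refine hw'0 (hQ w' fun y => ?_)
    set β := B w y
    set α := (B a y - β * B a f) / (2 * Q a) with hα
    have h2a : 2 * Q a ≠ 0 := mul_ne_zero two_ne' (ha ▸ hc)
    have h1 := hker (y - α • a - β • f)
      (by rw [polar_comm]; simp only [polar_sub_right, polar_smul_right, smul_eq_mul, polar_self']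
          rw [hα, div_mul_cancel₀ _ h2a]; ring)
      (by rw [polar_comm]; simp only [polar_sub_right, polar_smul_right, smul_eq_mul, hf,
          show B w a = 0 by rw [polar_comm]; exact haw]; ring)
    simp only [polar_sub_left, polar_smul_left, smul_eq_mul, haw', h0, mul_zero, sub_zero] at h1
    rw [polar_comm]; exact h1
  · refine sub_eq_zero.1 (hQ _ fun y => ?_)
    set β := B w y with hβ
    set α := (B a y - β * B a f) / (2 * Q a) with hα
    have h2a : 2 * Q a ≠ 0 := mul_ne_zero two_ne' (ha ▸ hc)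
    have h1 := hker (y - α • a - β • f)
      (by rw [polar_comm]; simp only [polar_sub_right, polar_smul_right, smul_eq_mul, polar_self']
          rw [hα, div_mul_cancel₀ _ h2a]; ring)
      (by rw [polar_comm]; simp only [polar_sub_right, polar_smul_right, smul_eq_mul, hf, hβ,
          show B w a = 0 by rw [polar_comm]; exact haw]; ring)
    simp only [polar_sub_left, polar_smul_left, smul_eq_mul, haw', mul_zero, sub_zero] at h1
    rw [polar_sub_left, polar_smul_left, smul_eq_mul, polar_comm Q w' y, ← hβ]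
    linear_combination h1

/-- A Siegel element fixing two orthogonal points and a singular point, moving another one. -/
theorem exists_mover (h5 : 5 ≤ finrank (ZMod 3) V) (hc : c ≠ 0) {a e w z : V} (ha : Q a = c)
    (he : Q e = c) (hae : B a e = 0) (hw0 : w ≠ 0) (hw : Q w = 0) (haw : B a w = 0)
    (hew : B e w = 0) (haz : B a z = 0) (hez : B e z = 0) (hne : ∀ t : ZMod 3, z ≠ t • w) :
    ∃ g ∈ EG Q, g.1 a = a ∧ g.1 e = e ∧ g.1 w = w ∧ ∀ t : ZMod 3, g.1 z ≠ t • z := by
  let f : V →ₗ[ZMod 3] ZMod 3 × ZMod 3 × ZMod 3 :=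
    (polarBilin Q a).prod ((polarBilin Q e).prod (polarBilin Q w))
  have hmem : ∀ x, x ∈ LinearMap.ker f → B a x = 0 ∧ B e x = 0 ∧ B w x = 0 := fun x h => by
    rw [LinearMap.mem_ker] at h
    exact ⟨congrArg Prod.fst h, congrArg (fun t => t.2.1) h, congrArg (fun t => t.2.2) h⟩
  have hv : ∃ v ∈ LinearMap.ker f, (B w z ≠ 0 ∧ ∀ t : ZMod 3, v ≠ t • w) ∨ (B w z = 0 ∧ B v z ≠ 0) := by
    by_cases hwz : B w z = 0
    · by_contra hcon
      push Not at hcon
      obtain ⟨g, hg⟩ := exists_polar_eq_one hQ hw0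
      refine hne (B g z) (sub_eq_zero.1 (hQ _ fun y => ?_))
      set β := B w y with hβ
      set α := (B a y - β * B a g) / (2 * Q a) with hα
      set γ := (B e y - β * B e g) / (2 * Q e) with hγ
      have h2a : 2 * Q a ≠ 0 := mul_ne_zero two_ne' (ha ▸ hc)
      have h2e : 2 * Q e ≠ 0 := mul_ne_zero two_ne' (he ▸ hc)
      have hm : y - α • a - γ • e - β • g ∈ LinearMap.ker f := by
        rw [LinearMap.mem_ker]
        refine Prod.ext ?_ (Prod.ext ?_ ?_)
        · show B a _ = 0
          simp only [polar_sub_right, polar_smul_right, smul_eq_mul, polar_self', hae]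
          rw [hα, div_mul_cancel₀ _ h2a]; ring
        · show B e _ = 0
          simp only [polar_sub_right, polar_smul_right, smul_eq_mul, polar_self',
            show B e a = 0 by rw [polar_comm]; exact hae]
          rw [hγ, div_mul_cancel₀ _ h2e]; ring
        · show B w _ = 0
          simp only [polar_sub_right, polar_smul_right, smul_eq_mul, hg, hβ,
            show B w a = 0 by rw [polar_comm]; exact haw,
            show B w e = 0 by rw [polar_comm]; exact hew]
          ring
      have h1 := (hcon _ hm).2 hwz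
      simp only [polar_sub_left, polar_smul_left, smul_eq_mul, haz, hez, mul_zero, sub_zero] at h1
      rw [polar_sub_left, polar_smul_left, smul_eq_mul, polar_comm Q z y, ← hβ]
      linear_combination h1
    · have hd : 2 ≤ finrank (ZMod 3) (LinearMap.ker f) := by
        have h1 := LinearMap.finrank_range_add_finrank_ker f
        have h2 := Submodule.finrank_le (LinearMap.range f)
        rw [finrank_prod, finrank_prod, finrank_self] at h2
        omega
      have : ¬ LinearMap.ker f ≤ Submodule.span (ZMod 3) {w} := fun hle => by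
        have := Submodule.finrank_mono hle
        rw [finrank_span_singleton hw0] at this
        omega
      obtain ⟨v, hv, hvw⟩ := SetLike.not_le_iff_exists.1 this
      exact ⟨v, hv, Or.inl ⟨hwz, fun t ht => hvw (Submodule.mem_span_singleton.2 ⟨t, ht.symm⟩)⟩⟩
  obtain ⟨v, hvk, hcase⟩ := hv
  obtain ⟨hav, hev, hwv⟩ := hmem v hvk
  have hp : SPair Q w v := ⟨hw, hwv⟩
  have hfix : ∀ x, B w x = 0 → B v x = 0 → (rho hp).1 x = x := fun x h1 h2 => rho_fix hp h1 h2
  refine ⟨rho hp, rho_mem hp, hfix a (by rw [polar_comm]; exact haw) (by rw [polar_comm]; exact hav),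
    hfix e (by rw [polar_comm]; exact hew) (by rw [polar_comm]; exact hev),
    hfix w hp.self (by rw [polar_comm]; exact hwv), fun t ht => ?_⟩
  rw [rho_apply] at ht
  have hw1 : B w z = t * B w z := by
    have := congrArg (fun x => B w x) ht
    simpa only [polar_sub_right, polar_add_right, polar_smul_right, smul_eq_mul, hwv, hp.self,
      mul_zero, sub_zero, add_zero] using this
  rcases hcase with ⟨hwz, hvw⟩ | ⟨hwz, hvz⟩
  · obtain rfl : t = 1 := by
      have h2 : (t - 1) * B w z = 0 := by linear_combination -hw1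
      exact sub_eq_zero.1 ((mul_eq_zero.1 h2).resolve_right hwz)
    rw [one_smul] at ht
    refine hvw ((B w z)⁻¹ * (B v z + Q v * B w z)) ?_
    have h3 : B w z • v = (B v z + Q v * B w z) • w := by
      rw [← sub_eq_zero]; linear_combination (norm := module) ht
    rw [mul_smul, ← h3, smul_smul, inv_mul_cancel₀ hwz, one_smul]
  · rw [hwz, zero_smul, mul_zero, add_zero, add_zero] at ht
    by_cases h1 : t = 1
    · rw [h1, one_smul, sub_eq_self, smul_eq_zero] at ht
      exact ht.elim hvz hw0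
    · refine hne ((1 - t)⁻¹ * B v z) ?_
      have h3 : (1 - t) • z = B v z • w := by
        rw [← sub_eq_zero]; linear_combination (norm := module) ht
      rw [mul_smul, ← h3, smul_smul, inv_mul_cancel₀ (sub_ne_zero.2 (Ne.symm h1)), one_smul]

/-- A singular vector non-orthogonal to `u`, `v`, `t` for non-orthogonal singular `v`, `t`. -/
theorem exists_common3 {u v t : V} (hu0 : u ≠ 0) (hu : Q u = 0) (hv : Q v = 0) (ht : Q t = 0)
    (huv : B u v = 0) (hut : B u t = 0) (hvt : B v t ≠ 0) :
    ∃ z, Q z = 0 ∧ B z u ≠ 0 ∧ B z v ≠ 0 ∧ B z t ≠ 0 := by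
  obtain ⟨g, hg⟩ := exists_hypPair hQ hu0 hu
  have key : ∀ g1 g2 k : ZMod 3, k ≠ 0 →
      ∃ α β : ZMod 3, g1 + β * k ≠ 0 ∧ g2 + α * k ≠ 0 := by decide
  obtain ⟨α, β, h1, h2⟩ := key (B g v) (B g t) (B v t) hvt
  refine ⟨g + (-(α * B g v + β * B g t + α * β * B v t)) • u + α • v + β • t, ?_, ?_, ?_, ?_⟩
  · simp only [Q_add, Q_smul, polar_add_left, polar_smul_left, polar_smul_right, smul_eq_mul,
      hu, hv, ht, huv, hut, hg.right, hg.pol']
    ring
  · simp only [polar_add_left, polar_smul_left, smul_eq_mul, polar_self', hu,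
      show B v u = 0 by rw [polar_comm]; exact huv, show B t u = 0 by rw [polar_comm]; exact hut,
      hg.pol']
    simp
  · simp only [polar_add_left, polar_smul_left, smul_eq_mul, polar_self', hv, huv,
      polar_comm Q t v, mul_zero, add_zero]
    exact h1
  · simp only [polar_add_left, polar_smul_left, smul_eq_mul, polar_self', ht, hut, mul_zero,
      add_zero]
    exact h2

/-- Chains in the singular vectors non-orthogonal to two orthogonal independent ones. -/
theorem chain {u t v v' : V} (hu0 : u ≠ 0) (hu : Q u = 0) (ht : Q t = 0) (hut : B u t = 0)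
    (hind : ∀ s : ZMod 3, t ≠ s • u) (hvu : B v u ≠ 0) (hvt : B v t ≠ 0) (hv'u : B v' u ≠ 0)
    (hv't : B v' t ≠ 0) :
    (∃ z, (Q z = 0 ∧ B z u ≠ 0 ∧ B z t ≠ 0) ∧ B v z ≠ 0 ∧ B z v' ≠ 0) ∨
    ∃ z z', (Q z = 0 ∧ B z u ≠ 0 ∧ B z t ≠ 0) ∧ (Q z' = 0 ∧ B z' u ≠ 0 ∧ B z' t ≠ 0) ∧
      B v z ≠ 0 ∧ B z z' ≠ 0 ∧ B z' v' ≠ 0 := by
  obtain ⟨g₀, hg₀⟩ := exists_polar_eq_one hQ hu0
  obtain ⟨y, hy1, hy2⟩ : ∃ y, B u y = 0 ∧ B t y = 1 := by
    by_contra hcon
    push Not at hcon
    refine hind (B t g₀) (sub_eq_zero.1 (hQ _ fun x => ?_))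
    have hz : B u (x - B u x • g₀) = 0 := by
      rw [polar_sub_right, polar_smul_right, hg₀, smul_eq_mul, mul_one, sub_self]
    by_contra hne
    have hz2 : B t (x - B u x • g₀) ≠ 0 := by
      intro h0
      apply hne
      rw [polar_sub_left, polar_smul_left, smul_eq_mul]
      rw [polar_sub_right, polar_smul_right, smul_eq_mul] at h0
      linear_combination h0
    exact hcon ((B t (x - B u x • g₀))⁻¹ • (x - B u x • g₀))
      (by rw [polar_smul_right, hz, smul_zero])
      (by rw [polar_smul_right, smul_eq_mul, inv_mul_cancel₀ hz2])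
  let g₁ := g₀ - B t g₀ • y
  let fu := g₁ - Q g₁ • u
  let y₂ := y - B fu y • u
  let ft := y₂ - Q y₂ • t
  have a1 : B u g₁ = 1 := by simp [g₁, polar_sub_right, polar_smul_right, hy1, hg₀]
  have a2 : B t g₁ = 0 := by simp [g₁, polar_sub_right, polar_smul_right, hy2]
  have htu : B t u = 0 := by rw [polar_comm]; exact hut
  have b1 : B u fu = 1 := by simp [fu, polar_sub_right, polar_smul_right, polar_self', hu, a1]
  have b2 : B t fu = 0 := by simp [fu, polar_sub_right, polar_smul_right, htu, a2]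
  have b3 : Q fu = 0 := by
    simp only [fu, sub_eq_add_neg, ← neg_smul, Q_add, Q_smul, polar_smul_right, smul_eq_mul, hu,
      polar_comm Q g₁ u, a1]
    ring
  have c1 : B u y₂ = 0 := by simp [y₂, polar_sub_right, polar_smul_right, polar_self', hu, hy1]
  have c2 : B t y₂ = 1 := by simp [y₂, polar_sub_right, polar_smul_right, htu, hy2]
  have c3 : B fu y₂ = 0 := by simp [y₂, polar_sub_right, polar_smul_right, polar_comm Q fu u, b1]
  have d1 : B u ft = 0 := by simp [ft, polar_sub_right, polar_smul_right, hut, c1]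
  have d2 : B t ft = 1 := by simp [ft, polar_sub_right, polar_smul_right, polar_self', ht, c2]
  have d3 : B fu ft = 0 := by simp [ft, polar_sub_right, polar_smul_right, polar_comm Q fu t, b2, c3]
  have d4 : Q ft = 0 := by
    simp only [ft, sub_eq_add_neg, ← neg_smul, Q_add, Q_smul, polar_smul_right, smul_eq_mul, ht,
      polar_comm Q y₂ t, c2]
    ring
  let Z : ZMod 3 → ZMod 3 → V := fun s k => fu + s • ft + k • u + (-(s * k)) • t
  have ZQ : ∀ s k, s ≠ 0 → Q (Z s k) = 0 := by
    intro s k hs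
    have hs2 := sq_one s hs
    simp only [Z, Q_add, Q_smul, polar_add_left, polar_smul_left, polar_smul_right, smul_eq_mul,
      hu, ht, b3, d4, d3, hut, polar_comm Q ft t, polar_comm Q ft u, polar_comm Q fu u,
      polar_comm Q fu t, b1, b2, d1, d2]
    linear_combination (-k) * hs2
  have Zu : ∀ s k, B (Z s k) u = 1 := fun s k => by
    simp [Z, polar_comm Q _ u, polar_add_right, polar_smul_right, polar_self', hu, b1, d1, hut]
  have Zt : ∀ s k, B (Z s k) t = s := fun s k => by
    simp [Z, polar_comm Q _ t, polar_add_right, polar_smul_right, polar_self', ht, b2, d2, htu]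
  have Zv : ∀ x s k, B x (Z s k) = B x fu + s * B x ft + k * B x u - s * k * B x t := fun x s k => by
    simp [Z, polar_add_right, polar_smul_right]; ring
  have key1 : ∀ P R e : ZMod 3, P ≠ 0 → R ≠ 0 → ∃ k : ZMod 3,
      e + k * P - -(P * R) * k * R ≠ 0 := by decide
  have key2 : ∀ P R e P' R' e' : ZMod 3, P ≠ 0 → R ≠ 0 → P' ≠ 0 → R' ≠ 0 → P * R = P' * R' →
      ∃ k : ZMod 3, e + k * P - -(P * R) * k * R ≠ 0 ∧ e' + k * P' - -(P * R) * k * R' ≠ 0 := by
    decide
  have hsne : ∀ P R : ZMod 3, P ≠ 0 → R ≠ 0 → -(P * R) ≠ 0 := fun P R h1 h2 =>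
    neg_ne_zero.2 (mul_ne_zero h1 h2)
  by_cases hside : B v u * B v t = B v' u * B v' t
  · obtain ⟨k, hk1, hk2⟩ := key2 (B v u) (B v t) (B v fu + -(B v u * B v t) * B v ft) (B v' u)
      (B v' t) (B v' fu + -(B v u * B v t) * B v' ft) hvu hvt hv'u hv't hside
    have hs := hsne _ _ hvu hvt
    exact Or.inl ⟨Z (-(B v u * B v t)) k, ⟨ZQ _ _ hs, by rw [Zu]; exact one_ne_zero,
      by rw [Zt]; exact hs⟩, by rw [Zv]; exact hk1, by rw [polar_comm, Zv]; exact hk2⟩
  · obtain ⟨k, hk⟩ := key1 (B v u) (B v t) (B v fu + -(B v u * B v t) * B v ft) hvu hvt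
    have hs := hsne _ _ hvu hvt
    set z := Z (-(B v u * B v t)) k with hz
    have hzu : B z u = 1 := Zu _ _
    have hzt : B z t = -(B v u * B v t) := Zt _ _
    have h3 : ∀ a b : ZMod 3, a ≠ 0 → b ≠ 0 → a ≠ b → -a = b := by decide
    have hsame : B z u * B z t = B v' u * B v' t := by
      rw [hzu, hzt, one_mul]
      exact h3 _ _ (mul_ne_zero hvu hvt) (mul_ne_zero hv'u hv't) hside
    have hzu0 : B z u ≠ 0 := by rw [hzu]; exact one_ne_zero
    have hzt0 : B z t ≠ 0 := by rw [hzt]; exact hs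
    obtain ⟨k', hk1, hk2⟩ := key2 (B z u) (B z t) (B z fu + -(B z u * B z t) * B z ft) (B v' u)
      (B v' t) (B v' fu + -(B z u * B z t) * B v' ft) hzu0 hzt0 hv'u hv't hsame
    have hs' := hsne _ _ hzu0 hzt0
    exact Or.inr ⟨z, Z (-(B z u * B z t)) k', ⟨ZQ _ _ hs, hzu0, hzt0⟩,
      ⟨ZQ _ _ hs', by rw [Zu]; exact one_ne_zero, by rw [Zt]; exact hs'⟩,
      by rw [hz, Zv]; exact hk, by rw [Zv]; exact hk1, by rw [polar_comm, Zv]; exact hk2⟩

end Dim

end Cfsg.Agent.Lib.FischerOrth68
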