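import Cfsg.Agent.Lib.FischerOrth68.Model

/-!
The common neighbours of two non-commuting transpositions form the section of a singular point.
-/
set_option autoImplicit false
set_option linter.unusedSectionVars false

open Module QuadraticMap
open Cfsg Cfsg.Agent.Lib.Forms Cfsg.Agent.Lib.OrthOmega
open Cfsg.Agent.Lib.FischerMTypes.Primitive (perp)
open Cfsg.Agent.Lib.ThreeTranspositions

namespace Cfsg.Agent.Lib.FischerOrth68

universe u

variable {V : Type} [AddCommGroup V] [Module (ZMod 3) V] {Q : QuadraticForm (ZMod 3) V} {c : ZMod 3}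
variable {G : Type u} [Group G] {D : Set G} {d : G} {f : G → V}

local notation "B" => QuadraticMap.polar (Q : V → ZMod 3)

theorem orefl_neg (v : V) : orefl Q (-v) = orefl Q v := Same.orefl_eq (Or.inr rfl)

theorem dir_neg_left (u v : V) : dir Q c (-u) v = dir Q c u v := by
  rw [dir, dir, polar_neg_left, mul_neg, neg_smul, smul_neg, neg_neg]

theorem dir_neg_right (u v : V) : dir Q c u (-v) = -dir Q c u v := by
  rw [dir, dir, polar_neg_right, mul_neg, neg_smul, neg_add]

theorem Same.dir {u u' v v' : V} (hu : Same u u') (hv : Same v v') :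
    Same (FischerOrth68.dir Q c u v) (FischerOrth68.dir Q c u' v') := by
  rcases hu with rfl | rfl <;> rcases hv with rfl | rfl <;>
    simp [dir_neg_left, dir_neg_right, Same]

/-- the standing hypotheses -/
structure Ctx (D : Set G) (d : G) (Q : QuadraticForm (ZMod 3) V) (c : ZMod 3) (f : G → V) : Prop where
  hD : IsThreeTranspositionClass D
  hd : d ∈ D
  hQ : Nondeg Q
  h5 : 5 ≤ finrank (ZMod 3) V
  hc : c ≠ 0
  M : Model D d Q c f

/-- the members outside `d` and its perp set -/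
def Far (D : Set G) (d x : G) : Prop := x ∈ D ∧ ¬ Commute d x

/-- near `a` the common neighbours of `d` and `x` are the section of `w` -/
structure LocDir (D : Set G) (d : G) (Q : QuadraticForm (ZMod 3) V) (f : G → V) (x a : G) (w : V) :
    Prop where
  ne : w ≠ 0
  sing : Q w = 0
  perp : polar Q (f a) w = 0
  sect : ∀ p ∈ Cfsg.Agent.Lib.FischerMTypes.Primitive.perp D d, Adj p a →
    (Commute p x ↔ polar Q (f p) w = 0)

variable [FiniteDimensional (ZMod 3) V] (C : Ctx D d Q c f)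
include C

theorem Ctx.closed : IsClosedSet D := isClosedSet_of_class C.hD

theorem Ctx.exists_model {a : G} (ha : a ∈ D) : ∃ g : G → V, Model D a Q c g := by
  obtain ⟨k, rfl⟩ := class_exists_conj C.hD C.hd ha
  exact ⟨_, C.M.transport C.closed k⟩

theorem Ctx.perp_conj {a p q : G} (hp : p ∈ perp D a) (hq : q ∈ perp D a) : q * p * q ∈ perp D a := by
  refine ⟨third_mem C.closed hq.1 hp.1, fun h => hp.2.1 ?_, (hq.2.2.mul_right hp.2.2).mul_right hq.2.2⟩
  calc p = q * (q * p * q) * q := by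
        rw [show q * (q * p * q) * q = (q * q) * p * (q * q) by simp only [mul_assoc],
          mul_self C.hD.1 hq.1, one_mul, mul_one]
    _ = q * a * q := by rw [h]
    _ = a := by rw [← hq.2.2.eq, mul_assoc, mul_self C.hD.1 hq.1, mul_one]

/-- In any model the section of a line's direction is read off the graph. -/
theorem Ctx.line_adj {a : G} {g : G → V} (M : Model D a Q c g) {l₁ l₂ p : G} (h1 : l₁ ∈ perp D a)
    (h2 : l₂ ∈ perp D a) (hp : p ∈ perp D a) (hl : ¬ Adj l₁ l₂) :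
    B (g p) (dir Q c (g l₁) (g l₂)) = 0 ↔
      ((Adj p l₁ ↔ Adj p l₂) ∧ (Adj p l₁ ↔ Adj p (l₁ * l₂ * l₁))) := by
  have hs : B (g l₁) (g l₂) ≠ 0 := fun h => hl ((M.adj _ h1 _ h2).2 h)
  rw [line_iff C.hc (M.level _ h1) hs, M.adj _ hp _ h1, M.adj _ hp _ h2,
    M.adj _ hp _ (C.perp_conj h2 h1), (M.conj _ h2 _ h1).polar_right]

/-- The two rewritten forms of a section condition. -/
theorem Ctx.sect_iff {a p x : G} {g : G → V} (M : Model D a Q c g) (hda : d ∈ perp D a)
    (hxa : x ∈ perp D a) (hpa : p ∈ perp D a) (hpd : p ∈ perp D d) (hx : ¬ Commute d x) :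
    Commute p x ↔ B (g p) (dir Q c (g d) (g x)) = 0 := by
  have h0 : B (g p) (g d) = 0 := (M.adj _ hpa _ hda).1 ⟨hpd.2.2.symm, hpd.2.1⟩
  have e : Commute p x ↔ Adj p x :=
    ⟨fun h => ⟨h, fun e => hx (e ▸ hpd.2.2)⟩, fun h => h.1⟩
  rw [e, M.adj _ hpa _ hxa, dir, polar_add_right, polar_smul_right, h0, smul_zero, add_zero]

theorem Ctx.dir_model {a x : G} {g : G → V} (M : Model D a Q c g) (hda : d ∈ perp D a)
    (hxa : x ∈ perp D a) (hx : ¬ Commute d x) :
    Q (dir Q c (g d) (g x)) = 0 ∧ B (g d) (dir Q c (g d) (g x)) = 0 ∧ dir Q c (g d) (g x) ≠ 0 := by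
  have hs : B (g d) (g x) ≠ 0 := fun h => hx ((M.adj _ hda _ hxa).2 h).1
  obtain ⟨h1, h2⟩ := line_facts C.hc (M.level _ hda) (M.level _ hxa) hs
  refine ⟨h1, h2, fun h0 => hx ?_⟩
  rw [dir, add_eq_zero_iff_eq_neg] at h0
  have hxd : Same (g x) (g d) := by
    rcases pm_one _ (mul_ne_zero C.hc hs) with e | e <;> rw [e] at h0
    · exact Or.inr (by rw [h0, one_smul])
    · exact Or.inl (by rw [h0, neg_one_smul, neg_neg])
  rw [M.inj _ hxa _ hda hxd]

/-- Step 1: near each common neighbour the trace is a section. -/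
theorem Ctx.exists_locDir {x a : G} (hx : Far D d x) (ha : a ∈ perp D d) (hax : Commute a x) :
    ∃ w, LocDir D d Q f x a w := by
  obtain ⟨g, M⟩ := C.exists_model ha.1
  have hda : d ∈ perp D a := ⟨C.hd, Ne.symm ha.2.1, ha.2.2.symm⟩
  have hxa : x ∈ perp D a := ⟨hx.1, fun e => hx.2 (e ▸ ha.2.2), hax⟩
  obtain ⟨hw, huw, hw0⟩ := C.dir_model M hda hxa hx.2
  set w' := dir Q c (g d) (g x) with hw'
  set u := g d with hu
  have hQu : Q u = c := M.level _ hda
  obtain ⟨u₁, hu₁, hu₁u, hu₁w⟩ := exists_level_perp_sing C.hQ C.h5 (hQu ▸ C.hc) hw0 hw huw c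
  obtain ⟨l₁, h1, s1⟩ := M.surj u₁ hu₁
  have hu₂ : Q (u₁ + w') = c := by rw [Q_add, hu₁, hw, hu₁w, add_zero, add_zero]
  obtain ⟨l₂, h2, s2⟩ := M.surj _ hu₂
  have h12 : B u₁ (u₁ + w') = 2 * c := by rw [polar_add_right, polar_self', hu₁w, hu₁, add_zero]
  have hl : ¬ Adj l₁ l₂ := by
    rw [M.adj _ h1 _ h2, s1.polar_left, s2.polar_right, h12]
    exact mul_ne_zero two_ne' C.hc
  have hdir : Same (dir Q c (g l₁) (g l₂)) w' := by
    refine (s1.dir s2).trans (Or.inl ?_)
    have hk : ∀ c : ZMod 3, c ≠ 0 → c * (2 * c) + 1 = 0 := by decide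
    rw [dir, h12]
    linear_combination (norm := module) hk c C.hc • u₁
  have d1 : B (g l₁) (g d) = 0 := by rw [s1.polar_left]; exact hu₁u
  have d2 : B (g l₂) (g d) = 0 := by
    rw [s2.polar_left, polar_add_left, hu₁u, polar_comm Q w' u, huw, add_zero]
  have mk : ∀ l ∈ perp D a, B (g l) (g d) = 0 → l ∈ perp D d ∧ Adj l a := fun l hl h => by
    obtain ⟨hc1, hne⟩ := (M.adj _ hl _ hda).2 h
    exact ⟨⟨hl.1, hne, hc1.symm⟩, ⟨hl.2.2.symm, hl.2.1⟩⟩
  obtain ⟨k1, a1⟩ := mk l₁ h1 d1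
  obtain ⟨k2, a2⟩ := mk l₂ h2 d2
  have hs : B (f l₁) (f l₂) ≠ 0 := fun h => hl ((C.M.adj _ k1 _ k2).2 h)
  obtain ⟨hq, -⟩ := line_facts C.hc (C.M.level _ k1) (C.M.level _ k2) hs
  refine ⟨dir Q c (f l₁) (f l₂), ⟨fun h0 => hl ?_, hq, ?_, fun p hp hpa => ?_⟩⟩
  · exfalso
    rw [dir, add_eq_zero_iff_eq_neg] at h0
    have hsame : Same (f l₂) (f l₁) := by
      rcases pm_one _ (mul_ne_zero C.hc hs) with e | e <;> rw [e] at h0
      · exact Or.inr (by rw [h0, one_smul])
      · exact Or.inl (by rw [h0, neg_one_smul, neg_neg])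
    have e := C.M.inj _ k2 _ k1 hsame
    have : u₁ + w' = u₁ ∨ u₁ + w' = -u₁ := s2.symm.trans (e ▸ s1)
    rcases this with e' | e'
    · exact hw0 (add_eq_left.1 e')
    · have hh := congrArg (fun z => B z u₁) e'
      simp only [polar_add_left, polar_neg_left, polar_self', hu₁, polar_comm Q w' u₁, hu₁w,
        add_zero] at hh
      have : ∀ c : ZMod 3, c ≠ 0 → ¬ (2 * c = -(2 * c)) := by decide
      exact this c C.hc hh
  · rw [dir, polar_add_right, polar_smul_right, (C.M.adj _ ha _ k1).1 ⟨a1.1.symm, a1.2.symm⟩,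
      (C.M.adj _ ha _ k2).1 ⟨a2.1.symm, a2.2.symm⟩, smul_zero, add_zero]
  · have hpA : p ∈ perp D a := ⟨hp.1, hpa.2, hpa.1.symm⟩
    rw [C.sect_iff M hda hxa hpA hp hx.2, C.line_adj C.M k1 k2 hp hl, ← C.line_adj M h1 h2 hpA hl,
      hdir.polar_right]

/-- A direction near `a` is determined by the trace. -/
theorem Ctx.locDir_unique {x y a : G} {w v : V} (ha : a ∈ perp D d) (h : LocDir D d Q f x a w)
    (h' : LocDir D d Q f y a v) (hsub : ∀ p ∈ perp D d, Commute p x → Commute p y) :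
    ∃ t : ZMod 3, t ≠ 0 ∧ v = t • w := by
  refine section_determines C.hQ C.h5 C.hc (C.M.level _ ha) h.ne h.sing h.perp h'.ne h'.sing h'.perp
    fun p hp hpa hpw => ?_
  obtain ⟨P, hP, sP⟩ := C.M.surj p hp
  have hadj : Adj P a := (C.M.adj _ hP _ ha).2 ((sP.polar_left _).2 hpa)
  have hx := (h.sect P hP hadj).2 ((sP.polar_left _).2 hpw)
  exact (sP.polar_left _).1 ((h'.sect P hP hadj).1 (hsub P hP hx))

omit C in
theorem LocDir.smul {x a : G} {w : V} (h : LocDir D d Q f x a w) {t : ZMod 3} (ht : t ≠ 0) :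
    LocDir D d Q f x a (t • w) := by
  refine ⟨fun h0 => h.ne ((smul_eq_zero.1 h0).resolve_left ht), by rw [Q_smul, h.sing, mul_zero],
    by rw [polar_smul_right, h.perp, smul_zero], fun p hp hpa => ?_⟩
  rw [h.sect p hp hpa, polar_smul_right, smul_eq_mul, mul_eq_zero, or_iff_right ht]

/-- Two pairs with the same direction at a common neighbour coincide. -/
theorem Ctx.eq_or_conj {y z a : G} {w : V} (hy : Far D d y) (hz : Far D d z) (ha : a ∈ perp D d)
    (hay : Commute a y) (haz : Commute a z) (h : LocDir D d Q f y a w) (h' : LocDir D d Q f z a w) :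
    z = y ∨ z = d * y * d := by
  obtain ⟨g, M⟩ := C.exists_model ha.1
  have hda : d ∈ perp D a := ⟨C.hd, Ne.symm ha.2.1, ha.2.2.symm⟩
  have hya : y ∈ perp D a := ⟨hy.1, fun e => hy.2 (e ▸ ha.2.2), hay⟩
  have hza : z ∈ perp D a := ⟨hz.1, fun e => hz.2 (e ▸ ha.2.2), haz⟩
  obtain ⟨hwy, huy, hwy0⟩ := C.dir_model M hda hya hy.2
  obtain ⟨hwz, huz, hwz0⟩ := C.dir_model M hda hza hz.2
  have hQu := M.level _ hda
  obtain ⟨t, ht, he⟩ := section_determines C.hQ C.h5 C.hc hQu hwy0 hwy huy hwz0 hwz huz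
    fun p hp hpu hpw => by
      obtain ⟨P, hPa, sP⟩ := M.surj p hp
      have hadj : Adj P d := (M.adj _ hPa _ hda).2 ((sP.polar_left _).2 hpu)
      have hPd : P ∈ perp D d := ⟨hPa.1, hadj.2, hadj.1.symm⟩
      have hPA : Adj P a := ⟨hPa.2.2.symm, hPa.2.1⟩
      have e1 := (C.sect_iff M hda hya hPa hPd hy.2).2 ((sP.polar_left _).2 hpw)
      have e2 := (h'.sect P hPd hPA).2 ((h.sect P hPd hPA).1 e1)
      exact (sP.polar_left _).1 ((C.sect_iff M hda hza hPa hPd hz.2).1 e2)
  set u := g d with hu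
  set k := t * (c * B u (g y)) - c * B u (g z) with hk
  have hzv : g z = t • g y + k • u := by
    rw [dir, dir] at he
    rw [hk]
    linear_combination (norm := module) he
  have hlev : c = t * t * c + k * k * c + t * k * B u (g y) := by
    conv_lhs => rw [← M.level _ hza]
    rw [hzv, Q_comb, M.level _ hya, hQu, polar_comm Q (g y) u]
  have key : ∀ c t s k : ZMod 3, c ≠ 0 → t ≠ 0 → s ≠ 0 →
      c = t * t * c + k * k * c + t * k * s → k = 0 ∨ k = -(t * (c * s)) := by decide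
  have hs : B u (g y) ≠ 0 := fun h0 => hy.2 ((M.adj _ hda _ hya).2 h0).1
  have hdy : d * y * d ∈ perp D a := C.perp_conj hya hda
  rcases key c t _ k C.hc ht hs hlev with e | e <;> rw [e] at hzv
  · refine Or.inl (M.inj _ hza _ hya ?_)
    rcases pm_one t ht with rfl | rfl
    · exact Or.inl (by rw [hzv, one_smul, zero_smul, add_zero])
    · exact Or.inr (by rw [hzv, neg_one_smul, zero_smul, add_zero])
  · refine Or.inr (M.inj _ hza _ hdy (Same.trans ?_ (M.conj _ hya _ hda).symm))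
    rw [refl_eq hQu]
    rcases pm_one t ht with rfl | rfl
    · exact Or.inl (by rw [hzv]; module)
    · exact Or.inr (by rw [hzv]; module)

/-- Reflection products lift to the centraliser of `d`. -/
theorem Ctx.exists_lift {g : orth Q} (hg : g ∈ Subgroup.closure (SquareClass.classSet Q c)) :
    ∃ h : G, h * d * h⁻¹ = d ∧ ∀ p ∈ perp D d, h * p * h⁻¹ ∈ perp D d ∧
      Same (f (h * p * h⁻¹)) (g.1 (f p)) := by
  haveI : Finite V := Module.finite_of_finite (ZMod 3)
  induction hg using Subgroup.closure_induction_left with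
  | one => exact ⟨1, by simp, fun p hp => ⟨by simpa using hp, by simpa using Same.refl (f p)⟩⟩
  | mul_left r hr g _ ih =>
    obtain ⟨v, hv, rfl⟩ := ThreeTranspositions.ReflectThree.mem_classSet.1 hr
    obtain ⟨q, hq, sq⟩ := C.M.surj v hv
    obtain ⟨h, hd, hp⟩ := ih
    refine ⟨q * h, ?_, fun p hpp => ?_⟩
    · calc q * h * d * (q * h)⁻¹ = q * (h * d * h⁻¹) * q⁻¹ := by group
        _ = d := by rw [hd, ← hq.2.2.eq, mul_inv_cancel_right]
    · obtain ⟨h1, h2⟩ := hp p hpp
      have e : q * h * p * (q * h)⁻¹ = q * (h * p * h⁻¹) * q := by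
        rw [mul_inv_rev, inv_eq C.hD.1 hq.1]; simp only [mul_assoc]
      rw [e]
      refine ⟨C.perp_conj h1 hq, (C.M.conj _ h1 _ hq).trans ?_⟩
      rw [sq.orefl_eq]
      exact Same.map (orefl Q v).1 h2
  | inv_mul_cancel r hr g _ ih =>
    obtain ⟨v, hv, rfl⟩ := ThreeTranspositions.ReflectThree.mem_classSet.1 hr
    obtain ⟨q, hq, sq⟩ := C.M.surj v hv
    obtain ⟨h, hd, hp⟩ := ih
    refine ⟨q * h, ?_, fun p hpp => ?_⟩
    · calc q * h * d * (q * h)⁻¹ = q * (h * d * h⁻¹) * q⁻¹ := by group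
        _ = d := by rw [hd, ← hq.2.2.eq, mul_inv_cancel_right]
    · obtain ⟨h1, h2⟩ := hp p hpp
      have e : q * h * p * (q * h)⁻¹ = q * (h * p * h⁻¹) * q := by
        rw [mul_inv_rev, inv_eq C.hD.1 hq.1]; simp only [mul_assoc]
      rw [e, ThreeTranspositions.ReflectThree.orefl_inv]
      refine ⟨C.perp_conj h1 hq, (C.M.conj _ h1 _ hq).trans ?_⟩
      rw [sq.orefl_eq]
      exact Same.map (orefl Q v).1 h2

theorem Ctx.far_conj {h x : G} (hd : h * d * h⁻¹ = d) (hx : Far D d x) : Far D d (h * x * h⁻¹) := by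
  refine ⟨C.closed.2 h x hx.1, fun hc => hx.2 ((Commute.conj_iff h).1 ?_)⟩
  rwa [hd]

/-- Directions move with lifts. -/
theorem Ctx.locDir_conj {g : orth Q} {h x a : G} {w : V} (hd : h * d * h⁻¹ = d)
    (hp : ∀ p ∈ perp D d, h * p * h⁻¹ ∈ perp D d ∧ Same (f (h * p * h⁻¹)) (g.1 (f p)))
    (ha : a ∈ perp D d) (hL : LocDir D d Q f x a w) :
    LocDir D d Q f (h * x * h⁻¹) (h * a * h⁻¹) (g.1 w) := by
  refine ⟨fun h0 => hL.ne (g.1.injective (by rw [h0, map_zero])), by rw [g.2]; exact hL.sing,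
    by rw [(hp a ha).2.polar_left, orth_polar g.2]; exact hL.perp, fun p hpp hpa => ?_⟩
  have hp' : h⁻¹ * p * h ∈ perp D d := by
    refine ⟨by simpa using C.closed.2 h⁻¹ p hpp.1, fun e => hpp.2.1 (by rw [← hd, ← e]; group), ?_⟩
    refine (Commute.conj_iff h).1 ?_
    rw [hd, show h * (h⁻¹ * p * h) * h⁻¹ = p by group]
    exact hpp.2.2
  have e : h * (h⁻¹ * p * h) * h⁻¹ = p := by group
  have hadj : Adj (h⁻¹ * p * h) a := by
    refine ⟨(Commute.conj_iff h).1 (by rw [e]; exact hpa.1), fun e' => hpa.2 ?_⟩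
    rw [← e, e']
  have hs := (hp _ hp').2
  rw [e] at hs
  rw [hs.polar_left, orth_polar g.2, ← hL.sect _ hp' hadj]
  nth_rw 1 [← e]
  exact Commute.conj_iff h

omit [FiniteDimensional (ZMod 3) V] in
theorem Ctx.commute_flip {p x : G} (hp : p ∈ perp D d) :
    Commute p (d * x * d) ↔ Commute p x := by
  have h := Commute.conj_iff d (a := p) (b := x)
  rwa [hp.2.2.eq, mul_inv_cancel_right, inv_eq C.hD.1 C.hd] at h

/-- Step 2: adjacent common neighbours have the same direction. -/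
theorem Ctx.adj_eq {x a e : G} {w v : V} (hx : Far D d x) (ha : a ∈ perp D d) (he : e ∈ perp D d)
    (hax : Commute a x) (hex : Commute e x) (hea : Adj e a) (h : LocDir D d Q f x a w)
    (h' : LocDir D d Q f x e v) : ∃ t : ZMod 3, t ≠ 0 ∧ v = t • w := by
  by_contra hcon
  push Not at hcon
  have hne : ∀ t : ZMod 3, v ≠ t • w := fun t => by
    by_cases ht : t = 0
    · rw [ht, zero_smul]; exact h'.ne
    · exact hcon t ht
  have hfae : B (f a) (f e) = 0 := (C.M.adj _ ha _ he).1 ⟨hea.1.symm, hea.2.symm⟩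
  have hew : B (f e) w = 0 := (h.sect e he hea).1 hex
  have hav : B (f a) v = 0 := (h'.sect a ha ⟨hea.1.symm, hea.2.symm⟩).1 hax
  obtain ⟨g, hg, ga, ge, gw, gv⟩ := exists_mover C.hQ C.h5 C.hc (C.M.level _ ha) (C.M.level _ he)
    hfae h.ne h.sing h.perp hew hav h'.perp hne
  obtain ⟨k, kd, kp⟩ := C.exists_lift (ThreeTranspositions.ReflectThree.eg_le C.hQ C.h5 C.hc hg)
  have fixa : k * a * k⁻¹ = a := C.M.inj _ (kp a ha).1 _ ha (by rw [← ga]; exact (kp a ha).2)
  have fixe : k * e * k⁻¹ = e := C.M.inj _ (kp e he).1 _ he (by rw [← ge]; exact (kp e he).2)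
  have hLa := C.locDir_conj kd kp ha h
  have hLe := C.locDir_conj kd kp he h'
  rw [fixa, gw] at hLa
  rw [fixe] at hLe
  have hy := C.far_conj kd hx
  have hay : Commute a (k * x * k⁻¹) := by rw [← fixa]; exact (Commute.conj_iff k).2 hax
  have hsame : ∀ p ∈ perp D d, Commute p x → Commute p (k * x * k⁻¹) := fun p hp hpx => by
    rcases C.eq_or_conj hx hy ha hax hay h hLa with e' | e' <;> rw [e']
    · exact hpx
    · exact (C.commute_flip hp).2 hpx
  obtain ⟨t, -, hgv⟩ := C.locDir_unique he h' hLe hsame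
  exact gv t hgv

/-- Step 3: every common neighbour lies in the section of each local direction. -/
theorem Ctx.trace_perp {x a b : G} {w : V} (hx : Far D d x) (ha : a ∈ perp D d) (hax : Commute a x)
    (h : LocDir D d Q f x a w) (hb : b ∈ perp D d) (hbx : Commute b x) : B (f b) w = 0 := by
  by_cases hab : Adj b a
  · exact (h.sect b hb hab).1 hbx
  by_contra hne
  obtain ⟨p, hp, hpa, hpb, hpw⟩ := exists_level_perp3 C.hQ C.h5 (a := f a) (b := f b)
    (C.M.level _ ha ▸ C.hc) h.sing h.perp hne c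
  obtain ⟨P, hP, sP⟩ := C.M.surj p hp
  have hPa : Adj P a := (C.M.adj _ hP _ ha).2 ((sP.polar_left _).2 hpa)
  have hPb : Adj P b := (C.M.adj _ hP _ hb).2 ((sP.polar_left _).2 hpb)
  have hPx : Commute P x := (h.sect P hP hPa).2 ((sP.polar_left _).2 hpw)
  obtain ⟨v, hv⟩ := C.exists_locDir hx hP hPx
  obtain ⟨t, ht, rfl⟩ := C.adj_eq hx ha hP hax hPx hPa h hv
  have := (hv.sect b hb ⟨hPb.1.symm, hPb.2.symm⟩).1 hbx
  rw [polar_smul_right, smul_eq_mul, mul_eq_zero] at this
  exact hne (this.resolve_left ht)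

/-- The local direction at one common neighbour serves at every other. -/
theorem Ctx.locDir_all {x a b : G} {w : V} (hx : Far D d x) (ha : a ∈ perp D d) (hax : Commute a x)
    (h : LocDir D d Q f x a w) (hb : b ∈ perp D d) (hbx : Commute b x) :
    LocDir D d Q f x b w := by
  obtain ⟨v, hv⟩ := C.exists_locDir hx hb hbx
  have hav : B (f a) v = 0 := C.trace_perp hx hb hbx hv ha hax
  obtain ⟨t, ht, rfl⟩ := section_determines C.hQ C.h5 C.hc (C.M.level _ ha) h.ne h.sing h.perp
    hv.ne hv.sing hav fun p hp hpa hpw => by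
      obtain ⟨P, hP, sP⟩ := C.M.surj p hp
      have hPa : Adj P a := (C.M.adj _ hP _ ha).2 ((sP.polar_left _).2 hpa)
      exact (sP.polar_left _).1
        (C.trace_perp hx hb hbx hv hP ((h.sect P hP hPa).2 ((sP.polar_left _).2 hpw)))
  have := hv.smul ht
  rwa [smul_smul, sq_one t ht, one_smul] at this

/-- The trace is invariant under translation by the direction. -/
theorem Ctx.translate {x t : G} {w v : V} (hx : Far D d x) (ht : t ∈ perp D d) (htx : Commute t x)
    (h : LocDir D d Q f x t w) (hv : Same (f t) v) (k : ZMod 3) :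
    ∃ t' ∈ perp D d, Commute t' x ∧ Same (f t') (v + k • w) := by
  have hQv : Q v = c := hv.level.symm.trans (C.M.level _ ht)
  have hvw : B v w = 0 := (hv.polar_left _).1 h.perp
  have hlev : Q (v + k • w) = c := by
    rw [Q_add, Q_smul, polar_smul_right, hvw, h.sing, hQv, mul_zero, smul_zero, add_zero, add_zero]
  obtain ⟨t', ht', st'⟩ := C.M.surj _ hlev
  obtain ⟨p, hp, hpt, hpw⟩ := exists_level_perp_sing C.hQ C.h5 (a := v) (hQv ▸ C.hc) h.ne h.sing hvw c
  obtain ⟨P, hP, sP⟩ := C.M.surj p hp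
  have hPt : Adj P t := (C.M.adj _ hP _ ht).2 (by rw [sP.polar_left, hv.polar_right]; exact hpt)
  have hPx : Commute P x := (h.sect P hP hPt).2 ((sP.polar_left _).2 hpw)
  have hLP := C.locDir_all hx ht htx h hP hPx
  have ht'P : Adj t' P := (C.M.adj _ ht' _ hP).2 (by
    rw [st'.polar_left, sP.polar_right, polar_add_left, polar_smul_left, polar_comm Q v p, hpt,
      polar_comm Q w p, hpw, smul_zero, add_zero])
  refine ⟨t', ht', (hLP.sect t' ht' ht'P).2 ?_, st'⟩
  rw [st'.polar_left, polar_add_left, polar_smul_left, hvw, polar_self', h.sing, mul_zero,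
    smul_zero, add_zero]

/-- Step 4: the trace is the whole section. -/
theorem Ctx.trace_eq {x a : G} {w : V} (hx : Far D d x) (ha : a ∈ perp D d) (hax : Commute a x)
    (h : LocDir D d Q f x a w) {b : G} (hb : b ∈ perp D d) (hbw : B (f b) w = 0) : Commute b x := by
  by_contra hbx
  have hlev : ∀ s : ZMod 3, Q (f b + s • w) = c := fun s => by
    rw [Q_add, Q_smul, polar_smul_right, hbw, h.sing, C.M.level _ hb, mul_zero, smul_zero, add_zero,
      add_zero]
  choose bs hbs sbs using fun s => C.M.surj _ (hlev s)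
  have hnt : ∀ s, ¬ Commute (bs s) x := fun s hs => by
    obtain ⟨b', hb', hb'x, sb'⟩ :=
      C.translate hx (hbs s) hs (C.locDir_all hx ha hax h (hbs s) hs) (sbs s) (-s)
    rw [neg_smul, add_neg_cancel_right] at sb'
    exact hbx (C.M.inj _ hb' _ hb sb' ▸ hb'x)
  have hinj : ∀ s t, bs s = bs t → s = t := fun s t e => by
    have hh : Same (f b + s • w) (f b + t • w) := ((sbs s).symm.trans (e ▸ sbs t))
    rcases hh with h1 | h1
    · have h2 : (s - t) • w = 0 := by linear_combination (norm := module) h1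
      exact sub_eq_zero.1 ((smul_eq_zero.1 h2).resolve_right h.ne)
    · exfalso
      have h2 := congrArg (fun z => B (f b) z) h1
      simp only [polar_add_right, polar_neg_right, polar_smul_right, polar_self', hbw, C.M.level _ hb,
        smul_zero, add_zero] at h2
      have : ∀ c : ZMod 3, c ≠ 0 → ¬ (2 * c = -(2 * c)) := by decide
      exact this c C.hc h2
  have inv : ∀ s, (bs s)⁻¹ = bs s := fun s => inv_eq C.hD.1 (hbs s).1
  have hfar : ∀ s, Far D d (bs s * x * bs s) := fun s => by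
    have := C.far_conj (h := bs s) (by rw [← (hbs s).2.2.eq, mul_inv_cancel_right]) hx
    rwa [inv] at this
  set q := bs 0 * a * bs 0 with hq
  have hLq : ∀ s, LocDir D d Q f (bs s * x * bs s) q w ∧ Commute q (bs s * x * bs s) := by
    intro s
    set β := B (f b) (f a)
    obtain ⟨t, ht, htx, st⟩ := C.translate hx ha hax h (Same.refl (f a)) (c * β * s)
    have hp : ∀ p ∈ perp D d, bs s * p * (bs s)⁻¹ ∈ perp D d ∧
        Same (f (bs s * p * (bs s)⁻¹)) ((orefl Q (f b + s • w)).1 (f p)) := fun p hp => by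
      rw [inv]
      exact ⟨C.perp_conj hp (hbs s), by rw [← (sbs s).orefl_eq]; exact C.M.conj _ hp _ (hbs s)⟩
    have hL := C.locDir_conj (g := orefl Q (f b + s • w)) (h := bs s)
      (by rw [← (hbs s).2.2.eq, mul_inv_cancel_right]) hp ht (C.locDir_all hx ha hax h ht htx)
    have hw' : (orefl Q (f b + s • w)).1 w = w := by
      refine refl_fix Q ?_
      rw [polar_add_left, polar_smul_left, hbw, polar_self', h.sing, mul_zero, smul_zero, add_zero]
    have e : bs s * t * (bs s)⁻¹ = q := by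
      refine C.M.inj _ (hp t ht).1 _ (C.perp_conj ha (hbs 0)) ((hp t ht).2.trans ?_)
      refine Same.trans (Same.map (orefl Q (f b + s • w)).1 st) (Same.trans ?_ (C.M.conj _ ha _ (hbs 0)).symm)
      have h0 : Same (f (bs 0)) (f b) := by simpa using sbs 0
      rw [h0.orefl_eq, refl_eq (hlev s), refl_eq (C.M.level _ hb)]
      refine Or.inl ?_
      have hb1 : B (f b + s • w) (f a + (c * β * s) • w) = β := by
        rw [polar_add_left, polar_add_right, polar_smul_left, polar_add_right, polar_smul_right,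
          polar_smul_right, hbw, polar_self', h.sing, polar_comm Q w (f a), h.perp]
        simp [β]
      rw [hb1]
      module
    rw [hw', e, inv] at hL
    refine ⟨hL, ?_⟩
    have := (Commute.conj_iff (bs s)).2 htx
    rwa [e, inv] at this
  have pick : ∀ s, bs s * x * bs s = bs 0 * x * bs 0 ∨ bs s * x * bs s = d * (bs 0 * x * bs 0) * d :=
    fun s => C.eq_or_conj (hfar 0) (hfar s) (C.perp_conj ha (hbs 0)) (hLq 0).2 (hLq s).2 (hLq 0).1
      (hLq s).1
  have back : ∀ s t, bs s * x * bs s = bs t * x * bs t → s = t := fun s t e => by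
    rw [braid C.hD.1 (hbs s).1 hx.1 (hnt s), braid C.hD.1 (hbs t).1 hx.1 (hnt t)] at e
    exact hinj s t (by simpa [mul_assoc] using e)
  rcases pick 1 with e | e
  · exact absurd (back 1 0 e) (by decide)
  rcases pick 2 with e' | e'
  · exact absurd (back 2 0 e') (by decide)
  exact absurd (back 1 2 (e.trans e'.symm)) (by decide)

/-- the common neighbours of `d` and `x` are the section of `w` -/
def Dir (D : Set G) (d : G) (Q : QuadraticForm (ZMod 3) V) (f : G → V) (x : G) (w : V) : Prop :=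
  w ≠ 0 ∧ Q w = 0 ∧ ∀ p ∈ perp D d, (Commute p x ↔ polar Q (f p) w = 0)

theorem Ctx.exists_dir {x : G} (hx : Far D d x) (h : ∃ a ∈ perp D d, Commute a x) :
    ∃ w, Dir D d Q f x w := by
  obtain ⟨a, ha, hax⟩ := h
  obtain ⟨w, hw⟩ := C.exists_locDir hx ha hax
  exact ⟨w, hw.ne, hw.sing, fun p hp => ⟨C.trace_perp hx ha hax hw hp,
    C.trace_eq hx ha hax hw hp⟩⟩

omit C [FiniteDimensional (ZMod 3) V] in
theorem Dir.locDir {x a : G} {w : V} (h : Dir D d Q f x w) (ha : a ∈ perp D d) (hax : Commute a x) :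
    LocDir D d Q f x a w :=
  ⟨h.1, h.2.1, (h.2.2 a ha).1 hax, fun p hp _ => h.2.2 p hp⟩

theorem Ctx.near_of_dir {x : G} {w : V} (h : Dir D d Q f x w) : ∃ a ∈ perp D d, Commute a x := by
  obtain ⟨p, hp, hpw⟩ := exists_level_sing C.hQ C.h5 h.1 h.2.1 c
  obtain ⟨a, ha, sa⟩ := C.M.surj p hp
  exact ⟨a, ha, (h.2.2 a ha).2 ((sa.polar_left _).2 hpw)⟩

/-- The direction determines the pair. -/
theorem Ctx.dir_inj {y z : G} {w v : V} (hy : Far D d y) (hz : Far D d z) (h : Dir D d Q f y w)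
    (h' : Dir D d Q f z v) {t : ZMod 3} (ht : t ≠ 0) (hv : v = t • w) :
    z = y ∨ z = d * y * d := by
  obtain ⟨a, ha, hay⟩ := C.near_of_dir h
  have haz : Commute a z := (h'.2.2 a ha).2 (by
    rw [hv, polar_smul_right, (h.2.2 a ha).1 hay, smul_zero])
  refine C.eq_or_conj hy hz ha hay haz (h.locDir ha hay) ?_
  have := (h'.locDir ha haz).smul ht
  rwa [hv, smul_smul, sq_one t ht, one_smul] at this

theorem Ctx.dir_unique {y : G} {w v : V} (h : Dir D d Q f y w) (h' : Dir D d Q f y v) :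
    ∃ t : ZMod 3, t ≠ 0 ∧ v = t • w := by
  obtain ⟨a, ha, hay⟩ := C.near_of_dir h
  exact C.locDir_unique ha (h.locDir ha hay) (h'.locDir ha hay) fun _ _ hp => hp

theorem Ctx.dir_conj {g : orth Q} {h x : G} {w : V} (hd : h * d * h⁻¹ = d)
    (hp : ∀ p ∈ perp D d, h * p * h⁻¹ ∈ perp D d ∧ Same (f (h * p * h⁻¹)) (g.1 (f p)))
    (hW : Dir D d Q f x w) : Dir D d Q f (h * x * h⁻¹) (g.1 w) := by
  refine ⟨fun h0 => hW.1 (g.1.injective (by rw [h0, map_zero])), by rw [g.2]; exact hW.2.1,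
    fun p hpp => ?_⟩
  have hp' : h⁻¹ * p * h ∈ perp D d := by
    refine ⟨by simpa using C.closed.2 h⁻¹ p hpp.1, fun e => hpp.2.1 (by rw [← hd, ← e]; group), ?_⟩
    refine (Commute.conj_iff h).1 ?_
    rw [hd, show h * (h⁻¹ * p * h) * h⁻¹ = p by group]
    exact hpp.2.2
  have e : h * (h⁻¹ * p * h) * h⁻¹ = p := by group
  have hs := (hp _ hp').2
  rw [e] at hs
  rw [hs.polar_left, orth_polar g.2, ← hW.2.2 _ hp']
  nth_rw 1 [← e]
  exact Commute.conj_iff h

end Cfsg.Agent.Lib.FischerOrth68
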